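import Cfsg.Agent.Lib.Orthogonal.Siegel
import Mathlib.Tactic.Module

/-!
Two generation of orthogonal groups: Siegel transformations along a hyperbolic system with an arbitrary core,
a generation criterion, and monomial elements.
-/

set_option autoImplicit false

namespace Cfsg.Agent.TwoGenOrth

open QuadraticMap Module Cfsg.Agent.Orth

variable {F V : Type*} [Field F] [AddCommGroup V] [Module F V] {Q : QuadraticForm F V}

/-- a chosen Siegel transformation -/
noncomputable def sg (Q : QuadraticForm F V) (u y : V) : oGroup Q := by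
  classical
  exact if h : Q u = 0 ∧ polar Q u y = 0 then
    ⟨(exists_siegel h.1 h.2).choose, (exists_siegel h.1 h.2).choose_spec.1⟩ else 1

theorem sg_spec {u y : V} (hu : Q u = 0) (hy : polar Q u y = 0) : IsSiegel (sg Q u y).1 Q u y := by
  unfold sg
  rw [dif_pos ⟨hu, hy⟩]
  exact (exists_siegel hu hy).choose_spec.2

theorem sg_apply {u y : V} (hu : Q u = 0) (hy : polar Q u y = 0) (x : V) :
    (sg Q u y).1 x = x + polar Q x u • y - (polar Q x y + Q y * polar Q x u) • u :=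
  sg_spec hu hy x

theorem sg_fix {u y x : V} (hu : Q u = 0) (hy : polar Q u y = 0) (h1 : polar Q x u = 0)
    (h2 : polar Q x y = 0) : (sg Q u y).1 x = x := (sg_spec hu hy).fix h1 h2

theorem sg_zero {u : V} (hu : Q u = 0) : sg Q u 0 = 1 :=
  Subtype.ext ((sg_spec hu (b_zero_right u)).eq (isSiegel_one (map_zero Q) (Or.inr (Submodule.zero_mem _))))

theorem sg_self {u : V} {c : F} (hu : Q u = 0) : sg Q u (c • u) = 1 :=
  Subtype.ext ((sg_spec hu (by rw [b_smul_right, b_self, hu, mul_zero, mul_zero])).eq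
    (isSiegel_one (by rw [q_smul, hu, mul_zero]) (Or.inr (Submodule.mem_span_singleton.2 ⟨c, rfl⟩))))

theorem sg_add {u y y' : V} (hu : Q u = 0) (hy : polar Q u y = 0) (hy' : polar Q u y' = 0) :
    sg Q u (y + y') = sg Q u y * sg Q u y' :=
  Subtype.ext ((sg_spec hu (by rw [b_add_right, hy, hy', add_zero])).eq
    ((sg_spec hu hy).mul hu hy hy' (sg_spec hu hy')))

theorem sg_neg {u y : V} (hu : Q u = 0) (hy : polar Q u y = 0) : sg Q u (-y) = (sg Q u y)⁻¹ := by
  rw [eq_inv_iff_mul_eq_one, ← sg_add hu (by rw [← neg_one_smul F, b_smul_right, hy, mul_zero]) hy,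
    neg_add_cancel, sg_zero hu]

theorem sg_conj (g : oGroup Q) {u y : V} (hu : Q u = 0) (hy : polar Q u y = 0) :
    g * sg Q u y * g⁻¹ = sg Q (g.1 u) (g.1 y) :=
  Subtype.ext (((sg_spec hu hy).conj g.2).eq
    (sg_spec (by rw [g.2, hu]) (by rw [b_map g.2, hy])))

theorem sg_scale {u y : V} (c : F) (hu : Q u = 0) (hy : polar Q u y = 0) :
    sg Q (c • u) y = sg Q u (c • y) :=
  Subtype.ext ((sg_spec (by rw [q_smul, hu, mul_zero]) (by rw [b_smul_left, hy, mul_zero])).scale.eq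
    (sg_spec hu (by rw [b_smul_right, hy, mul_zero])))

theorem sg_swap {u y : V} (hu : Q u = 0) (hy : Q y = 0) (huy : polar Q u y = 0) :
    sg Q u y = sg Q y (-u) := by
  have h' : polar Q y (-u) = 0 := by rw [← neg_one_smul F, b_smul_right, b_comm, huy, mul_zero]
  refine Subtype.ext (LinearEquiv.ext fun x => ?_)
  rw [sg_apply hu huy, sg_apply hy h', QuadraticMap.map_neg, hy, hu,
    show polar Q x (-u) = -polar Q x u by rw [← neg_one_smul F, b_smul_right, neg_one_mul]]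
  module

theorem sg_add_left {u v z : V} (hu : Q u = 0) (hv : Q v = 0) (huv : polar Q u v = 0)
    (huz : polar Q u z = 0) (hvz : polar Q v z = 0) :
    sg Q (u + v) z = sg Q u z * sg Q v z * sg Q u ((-Q z) • v) := by
  have h3 : polar Q u ((-Q z) • v) = 0 := by rw [b_smul_right, huv, mul_zero]
  refine Subtype.ext (LinearEquiv.ext fun x => ?_)
  rw [Subgroup.coe_mul, Subgroup.coe_mul, LinearEquiv.mul_apply, LinearEquiv.mul_apply,
    sg_apply (by rw [q_add, hu, hv, huv]; ring) (by rw [b_add_left, huz, hvz, add_zero]),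
    sg_apply hu h3, sg_apply hv hvz, sg_apply hu huz]
  have huu : polar Q u u = 0 := by rw [b_self, hu, mul_zero]
  have hvv : polar Q v v = 0 := by rw [b_self, hv, mul_zero]
  have hvu : polar Q v u = 0 := by rw [b_comm, huv]
  have hzu : polar Q z u = 0 := by rw [b_comm, huz]
  have hzv : polar Q z v = 0 := by rw [b_comm, hvz]
  simp only [b_sub_left, b_add_left, b_smul_left, b_add_right, b_smul_right, q_smul, b_self z,
    huu, hvv, huv, hvu, huz, hvz, hzu, hzv, hv, mul_zero, add_zero, zero_add, sub_zero]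
  module

theorem conj_mem' {G : Type*} [Group G] {E : Subgroup G} {g s : G} (hg : g ∈ E) (hs : s ∈ E) :
    g * s * g⁻¹ ∈ E := mul_mem (mul_mem hg hs) (inv_mem hg)

theorem conj_sg_mem {E : Subgroup (oGroup Q)} {g : oGroup Q} {u y : V} (hg : g ∈ E) (hu : Q u = 0)
    (hy : polar Q u y = 0) (h : sg Q u y ∈ E) : sg Q (g.1 u) (g.1 y) ∈ E :=
  sg_conj g hu hy ▸ conj_mem' hg h

theorem pow_apply_smul (g : oGroup Q) {x : V} {c : F} (h : g.1 x = c • x) :
    ∀ k : ℕ, (g ^ k).1 x = c ^ k • x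
  | 0 => by rw [pow_zero, pow_zero, one_smul]; rfl
  | k + 1 => by
    rw [pow_succ', Subgroup.coe_mul, LinearEquiv.mul_apply, pow_apply_smul g h k, map_smul, h, smul_smul,
      ← pow_succ]

/-- `m` mutually orthogonal hyperbolic pairs -/
structure Hyp (Q : QuadraticForm F V) (m : ℕ) (e f : ℕ → V) : Prop where
  qe : ∀ i < m, Q (e i) = 0
  qf : ∀ i < m, Q (f i) = 0
  ee : ∀ i < m, ∀ j < m, polar Q (e i) (e j) = 0
  ff : ∀ i < m, ∀ j < m, polar Q (f i) (f j) = 0
  ef : ∀ i < m, ∀ j < m, polar Q (e i) (f j) = if i = j then 1 else 0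

/-- orthogonal to all the pairs -/
def InW (Q : QuadraticForm F V) (m : ℕ) (e f : ℕ → V) (w : V) : Prop :=
  ∀ i < m, polar Q w (e i) = 0 ∧ polar Q w (f i) = 0

namespace Hyp

variable {m : ℕ} {e f : ℕ → V} (H : Hyp Q m e f)

include H

theorem symm : Hyp Q m f e :=
  ⟨H.qf, H.qe, H.ff, H.ee, fun i hi j hj => by
    rw [b_comm, H.ef j hj i hi]; exact if_congr eq_comm rfl rfl⟩

theorem ef1 {i : ℕ} (hi : i < m) : polar Q (e i) (f i) = 1 := by rw [H.ef i hi i hi, if_pos rfl]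

theorem ef0 {i j : ℕ} (hi : i < m) (hj : j < m) (h : i ≠ j) : polar Q (e i) (f j) = 0 := by
  rw [H.ef i hi j hj, if_neg h]

theorem fe1 {i : ℕ} (hi : i < m) : polar Q (f i) (e i) = 1 := H.symm.ef1 hi

theorem fe0 {i j : ℕ} (hi : i < m) (hj : j < m) (h : i ≠ j) : polar Q (f i) (e j) = 0 := H.symm.ef0 hi hj h

theorem We {w : V} (hw : InW Q m e f w) {i : ℕ} (hi : i < m) : polar Q w (e i) = 0 := (hw i hi).1

theorem Wf {w : V} (hw : InW Q m e f w) {i : ℕ} (hi : i < m) : polar Q w (f i) = 0 := (hw i hi).2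

theorem eW {w : V} (hw : InW Q m e f w) {i : ℕ} (hi : i < m) : polar Q (e i) w = 0 := by
  rw [b_comm, H.We hw hi]

theorem fW {w : V} (hw : InW Q m e f w) {i : ℕ} (hi : i < m) : polar Q (f i) w = 0 := by
  rw [b_comm, H.Wf hw hi]

theorem decomp (x : V) : InW Q m e f
    (x - ∑ i ∈ Finset.range m, (polar Q x (f i) • e i + polar Q x (e i) • f i)) := by
  intro i hi
  constructor
  · rw [b_sub_left, sub_eq_zero]
    have : ∀ u : V, polar Q u (e i) = polarBilin Q u (e i) := fun u => rfl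
    rw [this (∑ k ∈ _, _), map_sum, LinearMap.sum_apply, Finset.sum_eq_single i]
    · rw [← this, b_add_left, b_smul_left, b_smul_left, H.fe1 hi, H.ee i hi i hi]; ring
    · intro k hk hne
      rw [← this, b_add_left, b_smul_left, b_smul_left, H.fe0 (Finset.mem_range.1 hk) hi hne,
        H.ee k (Finset.mem_range.1 hk) i hi]
      ring
    · exact fun h => absurd (Finset.mem_range.2 hi) h
  · rw [b_sub_left, sub_eq_zero]
    have : ∀ u : V, polar Q u (f i) = polarBilin Q u (f i) := fun u => rfl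
    rw [this (∑ k ∈ _, _), map_sum, LinearMap.sum_apply, Finset.sum_eq_single i]
    · rw [← this, b_add_left, b_smul_left, b_smul_left, H.ef1 hi, H.ff i hi i hi]; ring
    · intro k hk hne
      rw [← this, b_add_left, b_smul_left, b_smul_left, H.ef0 (Finset.mem_range.1 hk) hi hne,
        H.ff k (Finset.mem_range.1 hk) i hi]
      ring
    · exact fun h => absurd (Finset.mem_range.2 hi) h

theorem ext {g h : oGroup Q} (he : ∀ i < m, g.1 (e i) = h.1 (e i)) (hf : ∀ i < m, g.1 (f i) = h.1 (f i))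
    (hw : ∀ w, InW Q m e f w → g.1 w = h.1 w) : g = h := by
  refine Subtype.ext (LinearEquiv.ext fun x => ?_)
  obtain ⟨s, hs⟩ : ∃ s, ∑ i ∈ Finset.range m, (polar Q x (f i) • e i + polar Q x (e i) • f i) = s := ⟨_, rfl⟩
  have h1 := hw _ (H.decomp x)
  rw [hs, map_sub, map_sub] at h1
  have h2 : g.1 s = h.1 s := by
    rw [← hs, map_sum, map_sum]
    refine Finset.sum_congr rfl fun i hi => ?_
    rw [map_add, map_add, map_smul, map_smul, map_smul, map_smul, he i (Finset.mem_range.1 hi),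
      hf i (Finset.mem_range.1 hi)]
  rw [h2] at h1
  exact sub_left_inj.1 h1

/-- the root elements at `e k` lie in `E` as soon as those along the frame and the core do -/
theorem sg_mem_e {E : Subgroup (oGroup Q)} {k : ℕ} (hk : k < m)
    (hA : ∀ w, InW Q m e f w → sg Q (e k) w ∈ E)
    (hP : ∀ i < m, i ≠ k → ∀ c : F, sg Q (e k) (c • e i) ∈ E)
    (hL : ∀ i < m, i ≠ k → ∀ c : F, sg Q (e k) (c • f i) ∈ E)
    {y : V} (hy : polar Q y (e k) = 0) : sg Q (e k) y ∈ E := by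
  have hu := H.qe k hk
  let P : V → Prop := fun y => polar Q (e k) y = 0 ∧ sg Q (e k) y ∈ E
  have hadd : ∀ a b, P a → P b → P (a + b) := fun a b ha hb =>
    ⟨by rw [b_add_right, ha.1, hb.1, add_zero], by rw [sg_add hu ha.1 hb.1]; exact mul_mem ha.2 hb.2⟩
  have hzero : P 0 := ⟨b_zero_right _, by rw [sg_zero hu]; exact one_mem _⟩
  obtain ⟨s, hs⟩ : ∃ s, ∑ i ∈ Finset.range m, (polar Q y (f i) • e i + polar Q y (e i) • f i) = s := ⟨_, rfl⟩
  have h1 : P s := by
    rw [← hs]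
    refine Finset.sum_induction _ P hadd hzero fun i hi => ?_
    have hi' := Finset.mem_range.1 hi
    rcases eq_or_ne i k with rfl | hik
    · rw [hy, zero_smul, add_zero]
      exact ⟨by rw [b_smul_right, H.ee i hk i hk, mul_zero], by rw [sg_self hu]; exact one_mem _⟩
    · exact hadd _ _ ⟨by rw [b_smul_right, H.ee k hk i hi', mul_zero], hP i hi' hik _⟩
        ⟨by rw [b_smul_right, H.ef0 hk hi' hik.symm, mul_zero], hL i hi' hik _⟩
  have h2 := H.decomp y
  rw [hs] at h2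
  have h3 := hadd _ _ h1 ⟨H.eW h2 hk, hA _ h2⟩
  rw [add_sub_cancel] at h3
  exact h3.2

/-- **Generation criterion**: the root elements of the frame and of the core give every root element -/
theorem of_gen (hQ : (polarBilin Q).Nondegenerate) (hm : 2 ≤ m) {E : Subgroup (oGroup Q)}
    (hA : ∀ i < m, ∀ w, InW Q m e f w → sg Q (e i) w ∈ E)
    (hB : ∀ i < m, ∀ w, InW Q m e f w → sg Q (f i) w ∈ E)
    (hP : ∀ i < m, ∀ j < m, i ≠ j → ∀ c : F, sg Q (e i) (c • e j) ∈ E)
    (hN : ∀ i < m, ∀ j < m, i ≠ j → ∀ c : F, sg Q (f i) (c • f j) ∈ E)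
    (hL : ∀ i < m, ∀ j < m, i ≠ j → ∀ c : F, sg Q (f j) (c • e i) ∈ E) :
    siegelGroup Q ≤ E := by
  have hL' : ∀ i < m, ∀ j < m, i ≠ j → ∀ c : F, sg Q (e i) (c • f j) ∈ E := by
    intro i hi j hj hij c
    rw [← sg_scale c (H.qe i hi) (H.ef0 hi hj hij),
      sg_swap (by rw [q_smul, H.qe i hi, mul_zero]) (H.qf j hj) (by rw [b_smul_left, H.ef0 hi hj hij, mul_zero]),
      ← neg_smul]
    exact hL i hi j hj hij _
  have h0 : 0 < m := by omega
  have h1 : 1 < m := by omega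
  have hU : ∀ y, polar Q y (e 0) = 0 → sg Q (e 0) y ∈ E := fun y hy =>
    H.sg_mem_e h0 (hA 0 h0) (fun i hi hne => hP 0 h0 i hi hne.symm) (fun i hi hne => hL' 0 h0 i hi hne.symm) hy
  have hD : ∀ y, polar Q y (f 0) = 0 → sg Q (f 0) y ∈ E := fun y hy =>
    H.symm.sg_mem_e h0 (fun w hw => hB 0 h0 w fun i hi => ⟨(hw i hi).2, (hw i hi).1⟩)
      (fun i hi hne => hN 0 h0 i hi hne.symm) (fun i hi hne => hL i hi 0 h0 hne) hy
  -- the first coordinate can be made non-zero
  have step1 : ∀ x : V, x ≠ 0 → ∃ g ∈ E, polar Q (g.1 x) (f 0) ≠ 0 := by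
    have caseA : ∀ x : V, ∀ j < m, j ≠ 0 → polar Q x (f j) ≠ 0 → polar Q x (f 0) = 0 →
        ∃ g ∈ E, polar Q (g.1 x) (f 0) ≠ 0 := by
      intro x j hj hj0 hne hz
      have hy : polar Q (f j) ((1 : F) • e 0) = 0 := by rw [b_smul_right, H.fe0 hj h0 hj0, mul_zero]
      refine ⟨sg Q (f j) ((1 : F) • e 0), hL 0 h0 j hj (Ne.symm hj0) 1, ?_⟩
      rw [sg_apply (H.qf j hj) hy, b_sub_left, b_add_left, b_smul_left, b_smul_left, b_smul_left, H.ef1 h0,
        H.ff j hj 0 h0, hz]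
      simpa using hne
    intro x hx
    by_cases hz : polar Q x (f 0) = 0
    swap
    · exact ⟨1, one_mem _, hz⟩
    by_cases hf : ∃ j < m, j ≠ 0 ∧ polar Q x (f j) ≠ 0
    · obtain ⟨j, hj, hj0, hne⟩ := hf
      exact caseA x j hj hj0 hne hz
    push Not at hf
    by_cases he : ∃ j < m, j ≠ 0 ∧ polar Q x (e j) ≠ 0
    · obtain ⟨j, hj, hj0, hne⟩ := he
      have hy : polar Q (e j) ((1 : F) • e 0) = 0 := by rw [b_smul_right, H.ee j hj 0 h0, mul_zero]
      refine ⟨sg Q (e j) ((1 : F) • e 0), hP j hj 0 h0 hj0 1, ?_⟩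
      rw [sg_apply (H.qe j hj) hy, b_sub_left, b_add_left, b_smul_left, b_smul_left, b_smul_left, H.ef1 h0,
        H.ef0 hj h0 hj0, hz]
      simpa using hne
    push Not at he
    by_cases he0 : polar Q x (e 0) = 0
    · -- x lies in the core
      have hW : InW Q m e f x := fun i hi => by
        rcases eq_or_ne i 0 with rfl | hi0
        · exact ⟨he0, hz⟩
        · exact ⟨he i hi hi0, hf i hi hi0⟩
      obtain ⟨y, hy⟩ : ∃ y, polar Q x y ≠ 0 := by
        by_contra! hall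
        exact hx (eq_zero_of_b hQ hall)
      obtain ⟨s, hs⟩ : ∃ s, ∑ i ∈ Finset.range m, (polar Q y (f i) • e i + polar Q y (e i) • f i) = s :=
        ⟨_, rfl⟩
      have hys : InW Q m e f (y - s) := hs ▸ H.decomp y
      have hxs : polar Q x s = 0 := by
        rw [← hs, show polar Q x (∑ i ∈ Finset.range m, (polar Q y (f i) • e i + polar Q y (e i) • f i)) =
          polarBilin Q x (∑ i ∈ Finset.range m, (polar Q y (f i) • e i + polar Q y (e i) • f i)) from rfl,
          map_sum]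
        refine Finset.sum_eq_zero fun i hi => ?_
        show polar Q x _ = 0
        rw [b_add_right, b_smul_right, b_smul_right, H.We hW (Finset.mem_range.1 hi),
          H.Wf hW (Finset.mem_range.1 hi)]
        ring
      refine ⟨sg Q (e 0) (y - s), hA 0 h0 _ hys, ?_⟩
      rw [sg_apply (H.qe 0 h0) (H.eW hys h0), b_sub_left, b_add_left, b_smul_left, b_smul_left, H.ef1 h0,
        H.Wf hys h0, hz, he0, b_sub_right, hxs]
      simpa using hy
    · -- only the coordinate at `f 0`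
      have hy : polar Q (e 0) ((1 : F) • e 1) = 0 := by rw [b_smul_right, H.ee 0 h0 1 h1, mul_zero]
      obtain ⟨x', hx'⟩ : ∃ x', (sg Q (e 0) ((1 : F) • e 1)).1 x = x' := ⟨_, rfl⟩
      have hne : polar Q x' (f 1) ≠ 0 := by
        rw [← hx', sg_apply (H.qe 0 h0) hy, b_sub_left, b_add_left, b_smul_left, b_smul_left, b_smul_left,
          H.ef1 h1, H.ef0 h0 h1 (by omega), hf 1 h1 one_ne_zero]
        simpa using he0
      by_cases hz' : polar Q x' (f 0) = 0
      · obtain ⟨g, hg, hgx⟩ := caseA x' 1 h1 one_ne_zero hne hz'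
        refine ⟨g * sg Q (e 0) ((1 : F) • e 1), mul_mem hg (hP 0 h0 1 h1 (by omega) 1), ?_⟩
        rwa [Subgroup.coe_mul, LinearEquiv.mul_apply, hx']
      · exact ⟨_, hP 0 h0 1 h1 (by omega) 1, hx' ▸ hz'⟩
  -- every singular vector moves into the first line
  have step2 : ∀ x : V, x ≠ 0 → Q x = 0 → ∃ g ∈ E, ∃ c : F, c ≠ 0 ∧ g.1 x = c • e 0 := by
    intro x hx hqx
    obtain ⟨g, hg, ha⟩ := step1 x hx
    obtain ⟨x', hx'⟩ : ∃ x', g.1 x = x' := ⟨_, rfl⟩
    rw [hx'] at ha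
    obtain ⟨a, hadef⟩ : ∃ a, polar Q x' (f 0) = a := ⟨_, rfl⟩
    rw [hadef] at ha
    obtain ⟨b, hb⟩ : ∃ b, polar Q x' (e 0) = b := ⟨_, rfl⟩
    obtain ⟨y, hy⟩ : ∃ y, (-a⁻¹) • (x' - a • e 0 - b • f 0) = y := ⟨_, rfl⟩
    have hyf : polar Q y (f 0) = 0 := by
      rw [← hy, b_smul_left, b_sub_left, b_sub_left, b_smul_left, b_smul_left, hadef, H.ef1 h0, H.ff 0 h0 0 h0]
      ring
    obtain ⟨d, hd⟩ : ∃ d, polar Q x' y + Q y * a = d := ⟨_, rfl⟩
    have happ : (sg Q (f 0) y).1 x' = a • e 0 + (b - d) • f 0 := by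
      rw [sg_apply (H.qf 0 h0) (by rw [b_comm, hyf]), hadef, hd, ← hy, smul_smul, mul_neg,
        mul_inv_cancel₀ ha]
      module
    have hq : Q (a • e 0 + (b - d) • f 0) = 0 := by
      rw [← happ, (sg Q (f 0) y).2, ← hx', g.2, hqx]
    rw [q_add, q_smul, q_smul, H.qe 0 h0, H.qf 0 h0, b_smul_left, b_smul_right, H.ef1 h0] at hq
    have hbd : b - d = 0 := by
      simpa [ha] using hq
    refine ⟨sg Q (f 0) y * g, mul_mem (hD y hyf) hg, a, ha, ?_⟩
    rw [Subgroup.coe_mul, LinearEquiv.mul_apply, hx', happ, hbd, zero_smul, add_zero]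
  rw [siegelGroup, Subgroup.closure_le]
  rintro s ⟨x, y, hx, -, hxy, hs⟩
  rcases eq_or_ne x 0 with rfl | hx0
  · have : s = 1 := Subtype.ext (LinearEquiv.ext fun v => by rw [hs]; simp [b_zero_right])
    rw [this]; exact one_mem _
  have hs' : s = sg Q x y := Subtype.ext (hs.eq (sg_spec hx hxy))
  obtain ⟨g, hg, c, hc, hgx⟩ := step2 x hx0 hx
  have h := sg_conj g hx hxy
  have hy0 : polar Q (e 0) (g.1 y) = 0 := by
    have h2 := b_map g.2 x y
    rw [hxy, hgx, b_smul_left] at h2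
    exact (mul_eq_zero.1 h2).resolve_left hc
  rw [hgx, sg_scale c (H.qe 0 h0) hy0] at h
  have h3 : g * sg Q x y * g⁻¹ ∈ E := h ▸ hU _ (by rw [b_smul_left, b_comm, hy0, mul_zero])
  have h4 := conj_mem' (inv_mem hg) h3
  rw [hs']
  simpa [mul_assoc] using h4

/-- Root elements at two core vectors spanning the core give everything -/
theorem of_pair (hQ : (polarBilin Q).Nondegenerate) (hm : 2 ≤ m) {E : Subgroup (oGroup Q)} {z₁ z₂ : V}
    (hz₁ : InW Q m e f z₁) (hz₂ : InW Q m e f z₂) (q₁ : Q z₁ ≠ 0) (q₂ : Q z₂ ≠ 0)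
    (hβ : polar Q z₁ z₂ ≠ 0) (hspan : ∀ w, InW Q m e f w → ∃ s t : F, w = s • z₁ + t • z₂)
    (hA : ∀ i < m, ∀ c : F, sg Q (e i) (c • z₁) ∈ E)
    (hB : ∀ i < m, ∀ c : F, sg Q (f i) (c • z₂) ∈ E) :
    siegelGroup Q ≤ E := by
  have hez : ∀ i < m, ∀ c : F, polar Q (e i) (c • z₁) = 0 := fun i hi c => by
    rw [b_smul_right, H.eW hz₁ hi, mul_zero]
  have hfz : ∀ i < m, ∀ c : F, polar Q (f i) (c • z₂) = 0 := fun i hi c => by
    rw [b_smul_right, H.fW hz₂ hi, mul_zero]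
  have hL : ∀ i < m, ∀ j < m, i ≠ j → ∀ c : F, sg Q (f j) (c • e i) ∈ E := by
    intro i hi j hj hij c
    obtain ⟨d, hd⟩ : ∃ d, -c / polar Q z₁ z₂ = d := ⟨_, rfl⟩
    have hg : sg Q (e i) z₁ ∈ E := by simpa using hA i hi 1
    have h := conj_sg_mem hg (H.qf j hj) (hfz j hj d) (hB j hj d)
    have e1 : (sg Q (e i) z₁).1 (f j) = f j :=
      sg_fix (H.qe i hi) (H.eW hz₁ hi) (H.fe0 hj hi hij.symm) (H.fW hz₁ hj)
    have e2 : (sg Q (e i) z₁).1 (d • z₂) = d • z₂ + c • e i := by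
      rw [map_smul, sg_apply (H.qe i hi) (H.eW hz₁ hi), H.We hz₂ hi, b_comm z₂ z₁]
      have : d * polar Q z₁ z₂ = -c := by rw [← hd, div_mul_cancel₀ _ hβ]
      match_scalars <;> first | ring1 | linear_combination -this
    rw [e1, e2, sg_add (H.qf j hj) (hfz j hj d) (by rw [b_smul_right, H.fe0 hj hi hij.symm, mul_zero])] at h
    exact (Subgroup.mul_mem_cancel_left E (hB j hj d)).1 h
  have hL' : ∀ i < m, ∀ j < m, i ≠ j → ∀ c : F, sg Q (e i) (c • f j) ∈ E := by
    intro i hi j hj hij c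
    rw [← sg_scale c (H.qe i hi) (H.ef0 hi hj hij),
      sg_swap (by rw [q_smul, H.qe i hi, mul_zero]) (H.qf j hj) (by rw [b_smul_left, H.ef0 hi hj hij, mul_zero]),
      ← neg_smul]
    exact hL i hi j hj hij _
  have key : ∀ (e f : ℕ → V), Hyp Q m e f → ∀ z, InW Q m e f z → Q z ≠ 0 →
      (∀ i < m, ∀ c : F, sg Q (e i) (c • z) ∈ E) →
      (∀ i < m, ∀ j < m, i ≠ j → ∀ c : F, sg Q (f j) (c • e i) ∈ E) →
      ∀ i < m, ∀ j < m, i ≠ j → ∀ c : F, sg Q (e i) (c • e j) ∈ E := by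
    intro e f H z hz qz hA hL i hi j hj hij c
    obtain ⟨t, ht⟩ : ∃ t, -c / Q z = t := ⟨_, rfl⟩
    have hez : polar Q (e i) z = 0 := H.eW hz hi
    have hy : polar Q (f i) (t • e j) = 0 := by rw [b_smul_right, H.fe0 hi hj hij, mul_zero]
    have h := conj_sg_mem (hL j hj i hi hij.symm t) (H.qe i hi) hez (by simpa using hA i hi 1)
    have e1 : (sg Q (f i) (t • e j)).1 (e i) = e i + t • e j := by
      rw [sg_apply (H.qf i hi) hy, H.ef1 hi, b_smul_right, H.ee i hi j hj, q_smul, H.qe j hj]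
      module
    have e2 : (sg Q (f i) (t • e j)).1 z = z :=
      sg_fix (H.qf i hi) hy (H.Wf hz hi) (by rw [b_smul_right, H.We hz hj, mul_zero])
    rw [e1, e2, sg_add_left (H.qe i hi) (by rw [q_smul, H.qe j hj, mul_zero])
      (by rw [b_smul_right, H.ee i hi j hj, mul_zero]) hez (by rw [b_smul_left, H.eW hz hj, mul_zero])] at h
    have h1 : sg Q (e i) z * sg Q (t • e j) z ∈ E := mul_mem (by simpa using hA i hi 1)
      (by rw [sg_scale t (H.qe j hj) (H.eW hz hj)]; exact hA j hj t)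
    have h2 := (Subgroup.mul_mem_cancel_left E h1).1 h
    rwa [smul_smul, neg_mul, ← mul_neg, ← ht, ← neg_div, neg_neg, mul_div_cancel₀ _ qz] at h2
  have hP := key e f H z₁ hz₁ q₁ hA hL
  have hN := key f e H.symm z₂ (fun i hi => ⟨(hz₂ i hi).2, (hz₂ i hi).1⟩) q₂ hB
    fun i hi j hj hij c => hL' j hj i hi hij.symm c
  have cross : ∀ (e f : ℕ → V), Hyp Q m e f → ∀ z, InW Q m e f z →
      (∀ i < m, ∀ c : F, sg Q (f i) (c • z) ∈ E) →
      (∀ i < m, ∀ j < m, i ≠ j → ∀ c : F, sg Q (e i) (c • e j) ∈ E) →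
      (∀ i < m, ∀ j < m, i ≠ j → ∀ c : F, sg Q (f j) (c • e i) ∈ E) →
      ∀ i < m, ∀ c : F, sg Q (e i) (c • z) ∈ E := by
    intro e f H z hz hB hP hL i hi c
    obtain ⟨j, hj, hij⟩ : ∃ j < m, i ≠ j := by
      rcases eq_or_ne i 0 with rfl | h
      · exact ⟨1, by omega, by omega⟩
      · exact ⟨0, by omega, h⟩
    have hy : polar Q (e i) ((-c) • e j) = 0 := by rw [b_smul_right, H.ee i hi j hj, mul_zero]
    have hfz : polar Q (f j) z = 0 := H.fW hz hj
    have h := conj_sg_mem (hP i hi j hj hij (-c)) (H.qf j hj) hfz (by simpa using hB j hj 1)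
    have e1 : (sg Q (e i) ((-c) • e j)).1 (f j) = f j + c • e i := by
      rw [sg_apply (H.qe i hi) hy, H.fe0 hj hi hij.symm, b_smul_right, H.fe1 hj]
      module
    have e2 : (sg Q (e i) ((-c) • e j)).1 z = z :=
      sg_fix (H.qe i hi) hy (H.We hz hi) (by rw [b_smul_right, H.We hz hj, mul_zero])
    rw [e1, e2, sg_add_left (H.qf j hj) (by rw [q_smul, H.qe i hi, mul_zero])
      (by rw [b_smul_right, H.fe0 hj hi hij.symm, mul_zero]) hfz (by rw [b_smul_left, H.eW hz hi, mul_zero]),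
      smul_smul] at h
    have h2 := (Subgroup.mul_mem_cancel_right E (hL i hi j hj hij _)).1 h
    have h3 := (Subgroup.mul_mem_cancel_left E (show sg Q (f j) z ∈ E by simpa using hB j hj 1)).1 h2
    rwa [sg_scale c (H.qe i hi) (H.eW hz hi)] at h3
  have hA₂ := cross e f H z₂ hz₂ hB hP hL
  have hB₁ := cross f e H.symm z₁ (fun i hi => ⟨(hz₁ i hi).2, (hz₁ i hi).1⟩) hA hN
    fun i hi j hj hij c => hL' j hj i hi hij.symm c
  refine H.of_gen hQ hm (fun i hi w hw => ?_) (fun i hi w hw => ?_) hP hN hL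
  · obtain ⟨s, t, rfl⟩ := hspan w hw
    rw [sg_add (H.qe i hi) (hez i hi s) (by rw [b_smul_right, H.eW hz₂ hi, mul_zero])]
    exact mul_mem (hA i hi s) (hA₂ i hi t)
  · obtain ⟨s, t, rfl⟩ := hspan w hw
    rw [sg_add (H.qf i hi) (by rw [b_smul_right, H.fW hz₁ hi, mul_zero]) (hfz i hi t)]
    exact mul_mem (hB₁ i hi s) (hB i hi t)

end Hyp

end Cfsg.Agent.TwoGenOrth
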