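import Cfsg.Agent.Lib.Classical.TwoGenOrth.Monomial

/-!
Two explicit generators of Omega for a hyperbolic system with core of rank at most two.
-/

set_option autoImplicit false

namespace Cfsg.Agent.TwoGenOrth

open QuadraticMap Module Cfsg.Agent.Orth

variable {F V : Type*} [Field F] [AddCommGroup V] [Module F V] {Q : QuadraticForm F V}

theorem inv_apply_of {g : oGroup Q} {x y : V} (h : g.1 x = y) : (g⁻¹).1 y = x := by
  rw [← h]
  exact g.1.symm_apply_apply x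

theorem sg_pow {u y : V} (hu : Q u = 0) (hy : polar Q u y = 0) :
    ∀ k : ℕ, sg Q u y ^ k = sg Q u ((k : F) • y)
  | 0 => by rw [pow_zero, Nat.cast_zero, zero_smul, sg_zero hu]
  | k + 1 => by
    rw [pow_succ, sg_pow hu hy k, ← sg_add hu (by rw [b_smul_right, hy, mul_zero]) hy, Nat.cast_succ, add_smul,
      one_smul]

/-- a scaling element in `E` spreads one root element over all its multiples -/
theorem scale_mem {E : Subgroup (oGroup Q)} {h : oGroup Q} (hh : h ∈ E) {u y : V} {β β' c₀ : F}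
    (hu : Q u = 0) (hy : polar Q u y = 0) (h1 : h.1 u = β • u) (h2 : h.1 y = β' • y)
    (gen : ∀ c : F, c ≠ 0 → ∃ k : ℕ, (β * β') ^ k = c) (hc₀ : c₀ ≠ 0) (h0 : sg Q u (c₀ • y) ∈ E) (c : F) :
    sg Q u (c • y) ∈ E := by
  rcases eq_or_ne c 0 with rfl | hc
  · rw [zero_smul, sg_zero hu]; exact one_mem _
  obtain ⟨k, hk⟩ := gen (c / c₀) (div_ne_zero hc hc₀)
  have hy' : polar Q u (c₀ • y) = 0 := by rw [b_smul_right, hy, mul_zero]
  have h' := conj_sg_mem (pow_mem hh k) hu hy' h0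
  rw [pow_apply_smul h h1, map_smul, pow_apply_smul h h2, smul_smul,
    sg_scale (β ^ k) hu (by rw [b_smul_right, hy, mul_zero]), smul_smul, mul_left_comm, ← mul_pow, hk,
    mul_div_cancel₀ _ hc₀] at h'
  exact h'

/-- two commuting scaling elements isolate a root element -/
theorem extract {E : Subgroup (oGroup Q)} {h h' : oGroup Q} (hh : h ∈ E) (hc : h * h' = h' * h) {u y : V}
    {α α' β β' : F} (hu : Q u = 0) (hy : polar Q u y = 0) (a1 : h'.1 u = α • u) (a2 : h'.1 y = α' • y)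
    (b1 : h.1 u = β • u) (b2 : h.1 y = β' • y) (hg : (sg Q u y)⁻¹ * h' * sg Q u y ∈ E) :
    sg Q u (((β * β' - 1) * (α * α' - 1)) • y) ∈ E := by
  have hp : ∀ t : F, polar Q u (t • y) = 0 := fun t => by rw [b_smul_right, hy, mul_zero]
  obtain ⟨c, hcdef⟩ : ∃ c, α * α' - 1 = c := ⟨_, rfl⟩
  have h1 : h' * sg Q u y * h'⁻¹ = sg Q u ((α * α') • y) := by
    rw [sg_conj h' hu hy, a1, a2, sg_scale α hu (hp _), smul_smul]
  have hg' : sg Q u (c • y) * h' ∈ E := by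
    have e : sg Q u (c • y) = (sg Q u y)⁻¹ * sg Q u ((α * α') • y) := by
      rw [← sg_neg hu hy, ← sg_add hu (by rw [← neg_one_smul F, hp]) (hp _), ← hcdef, sub_smul, one_smul,
        neg_add_eq_sub]
    rw [e, ← h1]
    have : (sg Q u y)⁻¹ * (h' * sg Q u y * h'⁻¹) * h' = (sg Q u y)⁻¹ * h' * sg Q u y := by group
    rwa [this]
  have h2 := mul_mem (conj_mem' hh hg') (inv_mem hg')
  have e2 : h * (sg Q u (c • y) * h') * h⁻¹ * (sg Q u (c • y) * h')⁻¹ =
      h * sg Q u (c • y) * h⁻¹ * (sg Q u (c • y))⁻¹ := by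
    calc h * (sg Q u (c • y) * h') * h⁻¹ * (sg Q u (c • y) * h')⁻¹
        = h * sg Q u (c • y) * (h' * h⁻¹) * h'⁻¹ * (sg Q u (c • y))⁻¹ := by group
      _ = h * sg Q u (c • y) * (h⁻¹ * h') * h'⁻¹ * (sg Q u (c • y))⁻¹ := by
          rw [show h' * h⁻¹ = h⁻¹ * h' from by
            rw [mul_inv_eq_iff_eq_mul, mul_assoc, ← hc, inv_mul_cancel_left]]
      _ = h * sg Q u (c • y) * h⁻¹ * (sg Q u (c • y))⁻¹ := by group
  rw [e2, sg_conj h hu (hp c), b1, map_smul, b2, smul_smul, sg_scale β hu (hp _), smul_smul,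
    ← sg_neg hu (hp c), ← neg_smul, ← sg_add hu (hp _) (hp _), ← add_smul] at h2
  convert h2 using 3
  rw [← hcdef]
  ring

/-- from root elements at two core vectors with non-zero polar value, one within the halves -/
theorem Hyp.mkL {m : ℕ} {e f : ℕ → V} (H : Hyp Q m e f) {E : Subgroup (oGroup Q)} {i j : ℕ} (hi : i < m)
    (hj : j < m) (hij : i ≠ j) {z y : V} (hz : InW Q m e f z) (hy : InW Q m e f y)
    (h1 : sg Q (e i) z ∈ E) (h2 : sg Q (f j) y ∈ E) :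
    sg Q (f j) ((-polar Q y z) • e i) ∈ E := by
  have h := conj_sg_mem h1 (H.qf j hj) (H.fW hy hj) h2
  have e2 : (sg Q (e i) z).1 y = y + (-polar Q y z) • e i := by
    rw [sg_apply (H.qe i hi) (H.eW hz hi), H.We hy hi]
    module
  rw [sg_fix (H.qe i hi) (H.eW hz hi) (H.fe0 hj hi hij.symm) (H.fW hz hj), e2,
    sg_add (H.qf j hj) (H.fW hy hj) (H.L_polar hi hj hij _)] at h
  exact (Subgroup.mul_mem_cancel_left E h2).1 h

/-- a cycle in `E` spreads root elements at a fixed vector -/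
theorem cycle_spread {m : ℕ} (e : ℕ → V) (qe : ∀ i < m, Q (e i) = 0) {E : Subgroup (oGroup Q)} {g : oGroup Q}
    (hg : g ∈ E) {z : V} (hgz : g.1 z = z) (hez : ∀ i < m, polar Q (e i) z = 0)
    (hlt : ∀ i, i + 1 < m → g.1 (e i) = e (i + 1)) {s : F} (hs : s ≠ 0) (hlast : g.1 (e (m - 1)) = s • e 0)
    (h1 : ∀ c : F, sg Q (e 1) (c • z) ∈ E) (hm : 1 < m) :
    ∀ i < m, ∀ c : F, sg Q (e i) (c • z) ∈ E := by
  have hp : ∀ i < m, ∀ c : F, polar Q (e i) (c • z) = 0 := fun i hi c => by rw [b_smul_right, hez i hi, mul_zero]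
  have up : ∀ d, d + 1 < m → ∀ c : F, sg Q (e (d + 1)) (c • z) ∈ E := by
    intro d
    induction d with
    | zero => exact fun _ => h1
    | succ d ih =>
      intro hd c
      have h := conj_sg_mem hg (qe (d + 1) (by omega)) (hp (d + 1) (by omega) c) (ih (by omega) c)
      rwa [hlt (d + 1) hd, map_smul, hgz] at h
  intro i hi c
  rcases eq_or_ne i 0 with rfl | h0
  · have h := conj_sg_mem hg (qe (m - 1) (by omega)) (hp (m - 1) (by omega) (s⁻¹ * c))
      (show sg Q (e (m - 1)) ((s⁻¹ * c) • z) ∈ E by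
        have := up (m - 2) (by omega) (s⁻¹ * c)
        rwa [show m - 2 + 1 = m - 1 by omega] at this)
    rw [hlast, map_smul, hgz, sg_scale s (qe 0 hi) (hp 0 hi _), smul_smul, mul_inv_cancel_left₀ hs] at h
    exact h
  · have := up (i - 1) (by omega) c
    rwa [show i - 1 + 1 = i by omega] at this

theorem gen_inv {θ : F} (gen : ∀ c : F, c ≠ 0 → ∃ k : ℕ, θ ^ k = c) :
    ∀ c : F, c ≠ 0 → ∃ k : ℕ, θ⁻¹ ^ k = c := fun c hc => by
  obtain ⟨k, hk⟩ := gen c⁻¹ (inv_ne_zero hc)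
  exact ⟨k, by rw [inv_pow, hk, inv_inv]⟩

/-- scaling every line of the frame and fixing the core -/
def IsDiag (Q : QuadraticForm F V) (m : ℕ) (e f : ℕ → V) (g : oGroup Q) : Prop :=
  (∀ l < m, (∃ c : F, g.1 (e l) = c • e l) ∧ ∃ c : F, g.1 (f l) = c • f l) ∧ ∀ w, InW Q m e f w → g.1 w = w

namespace Hyp

variable {m : ℕ} {e f : ℕ → V} (H : Hyp Q m e f)

include H

theorem diag_comm {g g' : oGroup Q} (hg : IsDiag Q m e f g) (hg' : IsDiag Q m e f g') : g * g' = g' * g := by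
  refine H.ext (fun l hl => ?_) (fun l hl => ?_) fun w hw => ?_
  · obtain ⟨c, hc⟩ := (hg.1 l hl).1
    obtain ⟨d, hd⟩ := (hg'.1 l hl).1
    rw [Subgroup.coe_mul, Subgroup.coe_mul, LinearEquiv.mul_apply, LinearEquiv.mul_apply, hd, hc, map_smul,
      map_smul, hc, hd, smul_comm]
  · obtain ⟨c, hc⟩ := (hg.1 l hl).2
    obtain ⟨d, hd⟩ := (hg'.1 l hl).2
    rw [Subgroup.coe_mul, Subgroup.coe_mul, LinearEquiv.mul_apply, LinearEquiv.mul_apply, hd, hc, map_smul,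
      map_smul, hc, hd, smul_comm]
  · rw [Subgroup.coe_mul, Subgroup.coe_mul, LinearEquiv.mul_apply, LinearEquiv.mul_apply, hg'.2 w hw, hg.2 w hw,
      hg'.2 w hw]

theorem hel_diag {i j : ℕ} (hi : i < m) (hj : j < m) (hij : i ≠ j) {t : F} (ht : t ≠ 0) :
    IsDiag Q m e f (hel Q e f i j t) := by
  refine ⟨fun l hl => ?_, fun w hw => H.hel_W hi hj hij t hw⟩
  rcases eq_or_ne l i with rfl | hli
  · exact ⟨⟨_, H.hel_ei hi hj hij ht⟩, _, H.hel_fi hi hj hij ht⟩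
  rcases eq_or_ne l j with rfl | hlj
  · exact ⟨⟨_, H.hel_ej hi hj hij ht⟩, _, H.hel_fj hi hj hij ht⟩
  exact ⟨⟨1, by rw [one_smul, H.hel_ek hi hj hij t hl hli hlj]⟩, 1,
    by rw [one_smul, H.hel_fk hi hj hij t hl hli hlj]⟩

theorem conj_apply_of {w h : oGroup Q} {x : V} {d : F} (hx : h.1 (w.1 x) = d • w.1 x) :
    (w⁻¹ * h * w).1 x = d • x := by
  rw [Subgroup.coe_mul, Subgroup.coe_mul, LinearEquiv.mul_apply, LinearEquiv.mul_apply, hx, map_smul,
    inv_apply_of rfl]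

theorem diag_conj {h : oGroup Q} (hh : IsDiag Q m e f h) :
    IsDiag Q m e f ((wS Q e f (m - 1))⁻¹ * h * wS Q e f (m - 1)) := by
  refine ⟨fun l hl => ?_, fun w hw => ?_⟩
  · by_cases hlast : l = m - 1
    · subst hlast
      obtain ⟨h1, h2⟩ := H.wS_last hl
      obtain ⟨⟨c, hc⟩, d, hd⟩ := hh.1 0 (by omega)
      exact ⟨⟨c, H.conj_apply_of (by rw [h1, map_smul, hc, smul_comm])⟩,
        d, H.conj_apply_of (by rw [h2, map_smul, hd, smul_comm])⟩
    · obtain ⟨h1, h2⟩ := H.wS_lt (k := m - 1) (by omega) (i := l) (by omega)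
      obtain ⟨⟨c, hc⟩, d, hd⟩ := hh.1 (l + 1) (by omega)
      exact ⟨⟨c, H.conj_apply_of (by rw [h1, hc])⟩, d, H.conj_apply_of (by rw [h2, hd])⟩
  · rw [← one_smul F w]
    have := H.wS_W (k := m - 1) (w := w)
    rcases Nat.eq_zero_or_pos m with rfl | hm
    · refine (H.conj_apply_of (x := (1 : F) • w) (d := 1) ?_).trans (one_smul _ _)
      rw [one_smul, one_smul]
      exact hh.2 _ fun i hi => absurd hi (Nat.not_lt_zero i)
    · refine (H.conj_apply_of (x := (1 : F) • w) (d := 1) ?_).trans (one_smul _ _)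
      rw [one_smul, one_smul, this (by omega) hw, hh.2 w hw]

variable [FiniteDimensional F V] [Fintype F]

theorem sg_mem_siegel (hQ : (polarBilin Q).Nondegenerate) (hn : 5 ≤ finrank F V) {u y : V} (hu : Q u = 0)
    (hy : polar Q u y = 0) : sg Q u y ∈ siegelGroup Q := siegel_mem hQ hn hu hy (sg_spec hu hy)

theorem L_mem_siegel (hQ : (polarBilin Q).Nondegenerate) (hn : 5 ≤ finrank F V) {i j : ℕ} (hi : i < m)
    (hj : j < m) (hij : i ≠ j) (c : F) : sg Q (f j) (c • e i) ∈ siegelGroup Q :=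
  H.sg_mem_siegel hQ hn (H.qf j hj) (H.L_polar hi hj hij c)

theorem nel_mem_siegel (hQ : (polarBilin Q).Nondegenerate) (hn : 5 ≤ finrank F V) {i j : ℕ} (hi : i < m)
    (hj : j < m) (hij : i ≠ j) (t : F) : nel Q e f i j t ∈ siegelGroup Q :=
  H.nel_mem (H.L_mem_siegel hQ hn hi hj hij) (H.L_mem_siegel hQ hn hj hi hij.symm) t

theorem wS_mem_siegel (hQ : (polarBilin Q).Nondegenerate) (hn : 5 ≤ finrank F V) :
    ∀ {k : ℕ}, k < m → wS Q e f k ∈ siegelGroup Q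
  | 0, _ => one_mem _
  | k + 1, hk => mul_mem (wS_mem_siegel hQ hn (by omega)) (H.nel_mem_siegel hQ hn hk (by omega) (by omega) 1)

/-- **two generators**, core of rank one or two, at least three elements -/
theorem two_gen_pair (hQ : (polarBilin Q).Nondegenerate) (hn : 5 ≤ finrank F V) (hm : 3 ≤ m)
    {θ : F} (hθ0 : θ ≠ 0) (hθ1 : θ ≠ 1) (gen : ∀ c : F, c ≠ 0 → ∃ k : ℕ, θ ^ k = c) {z₁ z₂ : V}
    (hz₁ : InW Q m e f z₁) (hz₂ : InW Q m e f z₂) (q₁ : Q z₁ ≠ 0) (q₂ : Q z₂ ≠ 0)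
    (hβ : polar Q z₁ z₂ ≠ 0) (hspan : ∀ w, InW Q m e f w → ∃ s t : F, w = s • z₁ + t • z₂) :
    ∃ a ∈ siegelGroup Q, ∃ b ∈ siegelGroup Q, siegelGroup Q ≤ Subgroup.closure {a, b} := by
  obtain ⟨h, hhdef⟩ : ∃ h, hel Q e f 1 2 θ = h := ⟨_, rfl⟩
  obtain ⟨w, hwdef⟩ : ∃ w, wS Q e f (m - 1) = w := ⟨_, rfl⟩
  have h1m : 1 < m := by omega
  have h2m : 2 < m := by omega
  have h0m : 0 < m := by omega
  have hh : h ∈ siegelGroup Q := hhdef ▸ mul_mem (H.nel_mem_siegel hQ hn h1m h2m (by omega) _)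
    (H.nel_mem_siegel hQ hn h1m h2m (by omega) _)
  have hw : w ∈ siegelGroup Q := hwdef ▸ H.wS_mem_siegel hQ hn (by omega)
  have hA : sg Q (e 0) z₁ ∈ siegelGroup Q := H.sg_mem_siegel hQ hn (H.qe 0 h0m) (H.eW hz₁ h0m)
  have hB : sg Q (f 1) z₂ ∈ siegelGroup Q := H.sg_mem_siegel hQ hn (H.qf 1 h1m) (H.fW hz₂ h1m)
  refine ⟨h * sg Q (e 0) z₁, mul_mem hh hA, w * sg Q (f 1) z₂, mul_mem hw hB, ?_⟩
  obtain ⟨M, hM⟩ : ∃ M, Subgroup.closure ({h * sg Q (e 0) z₁, w * sg Q (f 1) z₂} : Set (oGroup Q)) = M :=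
    ⟨_, rfl⟩
  rw [hM]
  have haM : h * sg Q (e 0) z₁ ∈ M := hM ▸ Subgroup.subset_closure (by simp)
  have hbM : w * sg Q (f 1) z₂ ∈ M := hM ▸ Subgroup.subset_closure (by simp)
  have he0 : h.1 (e 0) = e 0 := hhdef ▸ H.hel_ek h1m h2m (by omega) θ h0m (by omega) (by omega)
  have hz₁h : h.1 z₁ = z₁ := hhdef ▸ H.hel_W h1m h2m (by omega) θ hz₁
  have hz₂h : h.1 z₂ = z₂ := hhdef ▸ H.hel_W h1m h2m (by omega) θ hz₂
  -- split the first generator
  have hcomm : Commute h (sg Q (e 0) z₁) := by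
    have := sg_conj h (H.qe 0 h0m) (H.eW hz₁ h0m)
    rw [he0, hz₁h] at this
    exact mul_inv_eq_iff_eq_mul.1 this
  have hApow : sg Q (e 0) z₁ ∈ M := by
    have hpw := pow_mem haM (Fintype.card F - 1)
    rw [hcomm.mul_pow, sg_pow (H.qe 0 h0m) (H.eW hz₁ h0m),
      Nat.cast_sub Fintype.card_pos, FiniteField.cast_card_eq_zero, Nat.cast_one, zero_sub,
      neg_one_smul, sg_neg (H.qe 0 h0m) (H.eW hz₁ h0m),
      show h ^ (Fintype.card F - 1) = 1 from
        hhdef ▸ H.hel_pow_eq_one h1m h2m (by omega) hθ0 (FiniteField.pow_card_sub_one_eq_one θ hθ0),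
      one_mul] at hpw
    exact inv_mem_iff.1 hpw
  have hhM : h ∈ M := (Subgroup.mul_mem_cancel_right M hApow).1 haM
  -- isolate a root element from the second
  have e1 : w.1 (e 1) = e 2 := hwdef ▸ (H.wS_lt (k := m - 1) (by omega) (i := 1) (by omega)).1
  have f1 : w.1 (f 1) = f 2 := hwdef ▸ (H.wS_lt (k := m - 1) (by omega) (i := 1) (by omega)).2
  have hf1 : h.1 (f 1) = θ⁻¹ • f 1 := hhdef ▸ H.hel_fi h1m h2m (by omega) hθ0
  have a1 : (w⁻¹ * h * w).1 (f 1) = θ • f 1 :=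
    H.conj_apply_of (by rw [f1, ← hhdef, H.hel_fj h1m h2m (by omega) hθ0])
  have a2 : (w⁻¹ * h * w).1 z₂ = (1 : F) • z₂ :=
    H.conj_apply_of (by rw [← hwdef, H.wS_W (by omega) hz₂, hz₂h, one_smul])
  have hdiag : IsDiag Q m e f h := hhdef ▸ H.hel_diag h1m h2m (by omega) hθ0
  have hg : (sg Q (f 1) z₂)⁻¹ * (w⁻¹ * h * w) * sg Q (f 1) z₂ ∈ M := by
    have := mul_mem (mul_mem (inv_mem hbM) hhM) hbM
    simpa [mul_assoc] using this
  have hB0 := extract hhM (H.diag_comm hdiag (hwdef ▸ H.diag_conj hdiag)) (H.qf 1 h1m) (H.fW hz₂ h1m) a1 a2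
    hf1 (show h.1 z₂ = (1 : F) • z₂ by rw [one_smul, hz₂h]) hg
  have hBall : ∀ c : F, sg Q (f 1) (c • z₂) ∈ M := fun c =>
    scale_mem hhM (H.qf 1 h1m) (H.fW hz₂ h1m) hf1 (show h.1 z₂ = (1 : F) • z₂ by rw [one_smul, hz₂h])
      (by simpa using gen_inv gen) (by
        rw [mul_one, mul_one]
        refine mul_ne_zero (sub_ne_zero.2 ?_) (sub_ne_zero.2 hθ1)
        simpa using hθ1) hB0 c
  have hwM : w ∈ M := (Subgroup.mul_mem_cancel_right M (by simpa using hBall 1)).1 hbM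
  have hA1 : sg Q (e 1) ((1 : F) • z₁) ∈ M := by
    have := conj_sg_mem hwM (H.qe 0 h0m) (H.eW hz₁ h0m) hApow
    rwa [← hwdef, (H.wS_lt (k := m - 1) (by omega) (i := 0) (by omega)).1, H.wS_W (by omega) hz₁,
      zero_add, ← one_smul F z₁] at this
  have hAall : ∀ c : F, sg Q (e 1) (c • z₁) ∈ M := fun c =>
    scale_mem hhM (H.qe 1 h1m) (H.eW hz₁ h1m) (hhdef ▸ H.hel_ei h1m h2m (by omega) hθ0)
      (show h.1 z₁ = (1 : F) • z₁ by rw [one_smul, hz₁h]) (by simpa using gen) one_ne_zero hA1 c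
  have hone : ((-1 : F) ^ (m - 1)) ≠ 0 := pow_ne_zero _ (neg_ne_zero.2 one_ne_zero)
  refine H.of_pair hQ (by omega) hz₁ hz₂ q₁ q₂ hβ hspan ?_ ?_
  · exact cycle_spread e H.qe hwM (hwdef ▸ H.wS_W (by omega) hz₁) (fun i hi => H.eW hz₁ hi)
      (fun i hi => hwdef ▸ (H.wS_lt (k := m - 1) (by omega) (i := i) (by omega)).1) hone
      (hwdef ▸ (H.wS_last (k := m - 1) (by omega)).1) hAall h1m
  · exact cycle_spread f H.qf hwM (hwdef ▸ H.wS_W (by omega) hz₂) (fun i hi => H.fW hz₂ hi)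
      (fun i hi => hwdef ▸ (H.wS_lt (k := m - 1) (by omega) (i := i) (by omega)).2) hone
      (hwdef ▸ (H.wS_last (k := m - 1) (by omega)).2) hBall h1m

/-- **two generators**, no core, at least three elements -/
theorem two_gen_split (hQ : (polarBilin Q).Nondegenerate) (hn : 5 ≤ finrank F V) (hm : 4 ≤ m)
    {θ : F} (hθ0 : θ ≠ 0) (hθ1 : θ ≠ 1) (gen : ∀ c : F, c ≠ 0 → ∃ k : ℕ, θ ^ k = c)
    (hW : ∀ v, InW Q m e f v → v = 0) :
    ∃ a ∈ siegelGroup Q, ∃ b ∈ siegelGroup Q, siegelGroup Q ≤ Subgroup.closure {a, b} := by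
  obtain ⟨h, hhdef⟩ : ∃ h, hel Q e f 2 3 θ = h := ⟨_, rfl⟩
  obtain ⟨w, hwdef⟩ : ∃ w, wS Q e f (m - 1) = w := ⟨_, rfl⟩
  have h0m : 0 < m := by omega
  have h1m : 1 < m := by omega
  have h2m : 2 < m := by omega
  have h3m : 3 < m := by omega
  have wlt : ∀ i, i + 1 < m → w.1 (e i) = e (i + 1) ∧ w.1 (f i) = f (i + 1) := fun i hi =>
    hwdef ▸ H.wS_lt (k := m - 1) (by omega) (i := i) (by omega)
  have wlast := H.wS_last (k := m - 1) (by omega)
  rw [hwdef] at wlast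
  have hh : h ∈ siegelGroup Q := hhdef ▸ mul_mem (H.nel_mem_siegel hQ hn h2m h3m (by omega) _)
    (H.nel_mem_siegel hQ hn h2m h3m (by omega) _)
  have hw : w ∈ siegelGroup Q := hwdef ▸ H.wS_mem_siegel hQ hn (by omega)
  have hA : sg Q (e 0) (e 1) ∈ siegelGroup Q := H.sg_mem_siegel hQ hn (H.qe 0 h0m) (H.ee 0 h0m 1 h1m)
  have hB : sg Q (f 1) (f 3) ∈ siegelGroup Q := H.sg_mem_siegel hQ hn (H.qf 1 h1m) (H.ff 1 h1m 3 h3m)
  refine ⟨h * sg Q (e 0) (e 1), mul_mem hh hA, w * sg Q (f 1) (f 3), mul_mem hw hB, ?_⟩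
  obtain ⟨M, hM⟩ : ∃ M, Subgroup.closure ({h * sg Q (e 0) (e 1), w * sg Q (f 1) (f 3)} : Set (oGroup Q)) = M :=
    ⟨_, rfl⟩
  rw [hM]
  have haM : h * sg Q (e 0) (e 1) ∈ M := hM ▸ Subgroup.subset_closure (by simp)
  have hbM : w * sg Q (f 1) (f 3) ∈ M := hM ▸ Subgroup.subset_closure (by simp)
  have he0 : h.1 (e 0) = e 0 := hhdef ▸ H.hel_ek h2m h3m (by omega) θ h0m (by omega) (by omega)
  have he1 : h.1 (e 1) = e 1 := hhdef ▸ H.hel_ek h2m h3m (by omega) θ h1m (by omega) (by omega)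
  have hcomm : Commute h (sg Q (e 0) (e 1)) := by
    have := sg_conj h (H.qe 0 h0m) (H.ee 0 h0m 1 h1m)
    rw [he0, he1] at this
    exact mul_inv_eq_iff_eq_mul.1 this
  have hApow : sg Q (e 0) (e 1) ∈ M := by
    have hpw := pow_mem haM (Fintype.card F - 1)
    rw [hcomm.mul_pow, sg_pow (H.qe 0 h0m) (H.ee 0 h0m 1 h1m),
      Nat.cast_sub Fintype.card_pos, FiniteField.cast_card_eq_zero, Nat.cast_one, zero_sub,
      neg_one_smul, sg_neg (H.qe 0 h0m) (H.ee 0 h0m 1 h1m),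
      show h ^ (Fintype.card F - 1) = 1 from
        hhdef ▸ H.hel_pow_eq_one h2m h3m (by omega) hθ0 (FiniteField.pow_card_sub_one_eq_one θ hθ0),
      one_mul] at hpw
    exact inv_mem_iff.1 hpw
  have hhM : h ∈ M := (Subgroup.mul_mem_cancel_right M hApow).1 haM
  have hf1 : h.1 (f 1) = (1 : F) • f 1 := by
    rw [one_smul, ← hhdef]; exact H.hel_fk h2m h3m (by omega) θ h1m (by omega) (by omega)
  have hf3 : h.1 (f 3) = θ • f 3 := hhdef ▸ H.hel_fj h2m h3m (by omega) hθ0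
  have a1 : (w⁻¹ * h * w).1 (f 1) = θ⁻¹ • f 1 :=
    H.conj_apply_of (by rw [(wlt 1 (by omega)).2, ← hhdef, H.hel_fi h2m h3m (by omega) hθ0])
  have a2 : (w⁻¹ * h * w).1 (f 3) = (1 : F) • f 3 := by
    refine H.conj_apply_of ?_
    rw [one_smul]
    by_cases h4 : m = 4
    · subst h4
      rw [show (3 : ℕ) = 4 - 1 from rfl, wlast.2, map_smul, ← hhdef,
        H.hel_fk h2m h3m (by omega) θ h0m (by omega) (by omega)]
    · rw [(wlt 3 (by omega)).2, ← hhdef, H.hel_fk h2m h3m (by omega) θ (by omega) (by omega) (by omega)]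
  have hdiag : IsDiag Q m e f h := hhdef ▸ H.hel_diag h2m h3m (by omega) hθ0
  have hg : (sg Q (f 1) (f 3))⁻¹ * (w⁻¹ * h * w) * sg Q (f 1) (f 3) ∈ M := by
    have := mul_mem (mul_mem (inv_mem hbM) hhM) hbM
    simpa [mul_assoc] using this
  have hB0 := extract hhM (H.diag_comm hdiag (hwdef ▸ H.diag_conj hdiag)) (H.qf 1 h1m) (H.ff 1 h1m 3 h3m)
    a1 a2 hf1 hf3 hg
  have hN13 : ∀ c : F, sg Q (f 1) (c • f 3) ∈ M := fun c =>
    scale_mem hhM (H.qf 1 h1m) (H.ff 1 h1m 3 h3m) hf1 hf3 (by simpa using gen) (by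
      rw [mul_one, one_mul]
      refine mul_ne_zero (sub_ne_zero.2 hθ1) (sub_ne_zero.2 ?_)
      simpa using hθ1) hB0 c
  have hwM : w ∈ M := (Subgroup.mul_mem_cancel_right M (by simpa using hN13 1)).1 hbM
  have hP12 : ∀ c : F, sg Q (e 1) (c • e 2) ∈ M := fun c =>
    scale_mem hhM (H.qe 1 h1m) (H.ee 1 h1m 2 h2m) (β := 1) (by rw [one_smul, he1])
      (hhdef ▸ H.hel_ei h2m h3m (by omega) hθ0) (by simpa using gen) one_ne_zero (by
        have := conj_sg_mem hwM (H.qe 0 h0m) (H.ee 0 h0m 1 h1m) hApow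
        rwa [(wlt 0 (by omega)).1, (wlt 1 (by omega)).1, zero_add, ← one_smul F (e (1 + 1))] at this) c
  have hN02 : ∀ c : F, sg Q (f 0) (c • f 2) ∈ M := fun c => by
    have := conj_sg_mem (inv_mem hwM) (H.qf 1 h1m) (H.N_polar h1m h3m c) (hN13 c)
    rwa [inv_apply_of (wlt 0 (by omega)).2, map_smul, inv_apply_of (wlt 2 (by omega)).2] at this
  have hP01 : ∀ c : F, sg Q (e 0) (c • e 1) ∈ M := fun c => by
    have := conj_sg_mem (inv_mem hwM) (H.qe 1 h1m) (H.P_polar h1m h2m c) (hP12 c)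
    rwa [inv_apply_of (wlt 0 (by omega)).1, map_smul, inv_apply_of (wlt 1 (by omega)).1] at this
  have hP10 := H.P_symm h0m h1m hP01
  have hL12 : ∀ c : F, sg Q (f 2) (c • e 1) ∈ M := fun c => by
    have hy : polar Q (e 1) ((1 : F) • e 0) = 0 := H.P_polar h1m h0m 1
    have hz := H.N_polar h0m h2m c
    have h' := conj_sg_mem (hP10 1) (H.qf 0 h0m) hz (hN02 c)
    have e1' : (sg Q (e 1) ((1 : F) • e 0)).1 (f 0) = f 0 + (-1 : F) • e 1 := by
      rw [sg_apply (H.qe 1 h1m) hy, H.fe0 h0m h1m (by omega), b_smul_right, H.fe1 h0m]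
      module
    have e2' : (sg Q (e 1) ((1 : F) • e 0)).1 (c • f 2) = c • f 2 := by
      rw [map_smul, sg_fix (H.qe 1 h1m) hy (H.fe0 h2m h1m (by omega))
        (by rw [b_smul_right, H.fe0 h2m h0m (by omega), mul_zero])]
    rw [e1', e2', sg_add_left (H.qf 0 h0m) (by rw [q_smul, H.qe 1 h1m, mul_zero])
      (by rw [b_smul_right, H.fe0 h0m h1m (by omega), mul_zero]) hz
      (by rw [b_smul_left, b_smul_right, H.ef0 h1m h2m (by omega), mul_zero, mul_zero]),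
      show Q (c • f 2) = 0 by rw [q_smul, H.qf 2 h2m, mul_zero], neg_zero, zero_smul,
      sg_zero (H.qf 0 h0m), mul_one] at h'
    have h'' := (Subgroup.mul_mem_cancel_left M (hN02 c)).1 h'
    rw [sg_scale (-1) (H.qe 1 h1m) (by rw [b_smul_right, H.ef0 h1m h2m (by omega), mul_zero]), smul_smul,
      ← sg_scale _ (H.qe 1 h1m) (H.ef0 h1m h2m (by omega)),
      sg_swap (by rw [q_smul, H.qe 1 h1m, mul_zero]) (H.qf 2 h2m)
        (by rw [b_smul_left, H.ef0 h1m h2m (by omega), mul_zero]), ← neg_smul, neg_one_mul, neg_neg] at h''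
    exact h''
  have hL01 : ∀ c : F, sg Q (f 1) (c • e 0) ∈ M := fun c => by
    have := conj_sg_mem (inv_mem hwM) (H.qf 2 h2m) (H.L_polar h1m h2m (by omega) c) (hL12 c)
    rwa [inv_apply_of (wlt 1 (by omega)).2, map_smul, inv_apply_of (wlt 0 (by omega)).1] at this
  have step : ∀ i, i + 1 < m → ∀ c : F, sg Q (f (i + 1)) (c • e i) ∈ M := by
    intro i
    induction i with
    | zero => exact fun _ => hL01
    | succ i ih =>
      intro hi c
      have := conj_sg_mem hwM (H.qf (i + 1) (by omega)) (H.L_polar (by omega) (by omega) (by omega) c)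
        (ih (by omega) c)
      rwa [(wlt (i + 1) hi).2, map_smul, (wlt i (by omega)).1] at this
  have last : ∀ c : F, sg Q (f 0) (c • e (m - 1)) ∈ M := fun c => by
    have h' := step (m - 2) (by omega) (((-1 : F) ^ (m - 1))⁻¹ * c)
    rw [show m - 2 + 1 = m - 1 by omega] at h'
    have := conj_sg_mem hwM (H.qf (m - 1) (by omega)) (H.L_polar (by omega) (by omega) (by omega) _) h'
    rw [wlast.2, map_smul, (wlt (m - 2) (by omega)).1, show m - 2 + 1 = m - 1 by omega,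
      sg_scale _ (H.qf 0 h0m) (H.L_polar (by omega) h0m (by omega) _), smul_smul,
      mul_inv_cancel_left₀ (pow_ne_zero _ (neg_ne_zero.2 one_ne_zero))] at this
    exact this
  have hL := H.L_all_up step last
  have hL' : ∀ i < m, ∀ j < m, i ≠ j → ∀ c : F, sg Q (e j) (c • f i) ∈ M := fun i hi j hj hij c => by
    rw [← sg_scale c (H.qe j hj) (H.ef0 hj hi hij.symm),
      sg_swap (by rw [q_smul, H.qe j hj, mul_zero]) (H.qf i hi)
        (by rw [b_smul_left, H.ef0 hj hi hij.symm, mul_zero]), ← neg_smul]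
    exact hL j hj i hi hij.symm _
  exact H.of_gen hQ (by omega) (fun i hi v hv => by rw [hW v hv, sg_zero (H.qe i hi)]; exact one_mem _)
    (fun i hi v hv => by rw [hW v hv, sg_zero (H.qf i hi)]; exact one_mem _)
    (H.P_spread h1m h2m (by omega) hL hP12) (H.symm.P_spread h1m h3m (by omega) hL' hN13) hL

end Hyp

end Cfsg.Agent.TwoGenOrth
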