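import Cfsg.Agent.Lib.Classical.TwoGenOrth.Basic

/-!
Monomial elements of a hyperbolic system and the spreading of root elements along them.
-/

set_option autoImplicit false

namespace Cfsg.Agent.TwoGenOrth

open QuadraticMap Module Cfsg.Agent.Orth

variable {F V : Type*} [Field F] [AddCommGroup V] [Module F V] {Q : QuadraticForm F V}

/-- a transitive relation containing a cycle relates any two distinct indices -/
theorem all_of_cycle {m : ℕ} (R : ℕ → ℕ → Prop)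
    (trans : ∀ i < m, ∀ j < m, ∀ k < m, i ≠ j → j ≠ k → i ≠ k → R i j → R j k → R i k)
    (step : ∀ i, i + 1 < m → R i (i + 1)) (last : R (m - 1) 0) :
    ∀ i < m, ∀ j < m, i ≠ j → R i j := by
  have up : ∀ d i, i + d + 1 < m → R i (i + d + 1) := by
    intro d
    induction d with
    | zero => exact step
    | succ d ih =>
      intro i hi
      exact trans i (by omega) (i + d + 1) (by omega) (i + (d + 1) + 1) hi (by omega) (by omega) (by omega)
        (ih i (by omega)) (step (i + d + 1) (by omega))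
  have up' : ∀ i j, i < j → j < m → R i j := fun i j hij hj => by
    have := up (j - i - 1) i (by omega)
    rwa [show i + (j - i - 1) + 1 = j by omega] at this
  have down0 : ∀ i < m, i ≠ 0 → R i 0 := fun i hi h0 => by
    rcases eq_or_ne i (m - 1) with rfl | h
    · exact last
    · exact trans i hi (m - 1) (by omega) 0 (by omega) h (by omega) h0 (up' i (m - 1) (by omega) (by omega)) last
  intro i hi j hj hij
  rcases Nat.lt_or_ge i j with h | h
  · exact up' i j h hj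
  · rcases eq_or_ne j 0 with rfl | hj0
    · exact down0 i hi hij
    · exact trans i hi 0 (by omega) j hj (by omega) (Ne.symm hj0) hij (down0 i hi (by omega))
        (up' 0 j (by omega) hj)

/-- the monomial element interchanging two lines of each half -/
noncomputable def nel (Q : QuadraticForm F V) (e f : ℕ → V) (i j : ℕ) (t : F) : oGroup Q :=
  sg Q (f j) (t • e i) * sg Q (f i) ((-t⁻¹) • e j) * sg Q (f j) (t • e i)

/-- the diagonal element of a pair of indices -/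
noncomputable def hel (Q : QuadraticForm F V) (e f : ℕ → V) (i j : ℕ) (t : F) : oGroup Q :=
  nel Q e f i j t * nel Q e f i j (-1)

/-- the cycle on the first `k + 1` indices -/
noncomputable def wS (Q : QuadraticForm F V) (e f : ℕ → V) : ℕ → oGroup Q
  | 0 => 1
  | k + 1 => wS Q e f k * nel Q e f (k + 1) k 1

namespace Hyp

variable {m : ℕ} {e f : ℕ → V} (H : Hyp Q m e f)

include H

theorem inW_smul {w : V} (hw : InW Q m e f w) (c : F) : InW Q m e f (c • w) := fun i hi => by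
  simp [b_smul_left, hw i hi]

theorem L_polar {i j : ℕ} (hi : i < m) (hj : j < m) (hij : i ≠ j) (t : F) :
    polar Q (f j) (t • e i) = 0 := by rw [b_smul_right, H.fe0 hj hi hij.symm, mul_zero]

theorem P_polar {i j : ℕ} (hi : i < m) (hj : j < m) (t : F) : polar Q (e i) (t • e j) = 0 := by
  rw [b_smul_right, H.ee i hi j hj, mul_zero]

theorem N_polar {i j : ℕ} (hi : i < m) (hj : j < m) (t : F) : polar Q (f i) (t • f j) = 0 := by
  rw [b_smul_right, H.ff i hi j hj, mul_zero]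

theorem A_polar {i : ℕ} (hi : i < m) {z : V} (hz : InW Q m e f z) (t : F) : polar Q (e i) (t • z) = 0 := by
  rw [b_smul_right, H.eW hz hi, mul_zero]

theorem B_polar {i : ℕ} (hi : i < m) {z : V} (hz : InW Q m e f z) (t : F) : polar Q (f i) (t • z) = 0 := by
  rw [b_smul_right, H.fW hz hi, mul_zero]

theorem L_e {i j : ℕ} (hi : i < m) (hj : j < m) (hij : i ≠ j) (t : F) :
    (sg Q (f j) (t • e i)).1 (e j) = e j + t • e i := by
  rw [sg_apply (H.qf j hj) (H.L_polar hi hj hij t), H.ef1 hj, b_smul_right, H.ee j hj i hi, q_smul, H.qe i hi]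
  module

theorem L_f {i j : ℕ} (hi : i < m) (hj : j < m) (hij : i ≠ j) (t : F) :
    (sg Q (f j) (t • e i)).1 (f i) = f i - t • f j := by
  rw [sg_apply (H.qf j hj) (H.L_polar hi hj hij t), H.ff i hi j hj, b_smul_right, H.fe1 hi]
  module

theorem L_fix {i j : ℕ} (hi : i < m) (hj : j < m) (hij : i ≠ j) (t : F) {x : V}
    (h1 : polar Q x (f j) = 0) (h2 : polar Q x (e i) = 0) : (sg Q (f j) (t • e i)).1 x = x :=
  sg_fix (H.qf j hj) (H.L_polar hi hj hij t) h1 (by rw [b_smul_right, h2, mul_zero])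

theorem nel_apply (i j : ℕ) (t : F) (x : V) : (nel Q e f i j t).1 x =
    (sg Q (f j) (t • e i)).1 ((sg Q (f i) ((-t⁻¹) • e j)).1 ((sg Q (f j) (t • e i)).1 x)) := rfl

theorem nel_ej {i j : ℕ} (hi : i < m) (hj : j < m) (hij : i ≠ j) {t : F} (ht : t ≠ 0) :
    (nel Q e f i j t).1 (e j) = t • e i := by
  rw [H.nel_apply, H.L_e hi hj hij, map_add, map_smul,
    H.L_fix hj hi hij.symm _ (H.ef0 hj hi hij.symm) (H.ee j hj j hj), H.L_e hj hi hij.symm, smul_add, smul_smul,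
    mul_neg, mul_inv_cancel₀ ht,
    show e j + (t • e i + (-1 : F) • e j) = t • e i by module, map_smul,
    H.L_fix hi hj hij _ (H.ef0 hi hj hij) (H.ee i hi i hi)]

theorem nel_ei {i j : ℕ} (hi : i < m) (hj : j < m) (hij : i ≠ j) {t : F} (ht : t ≠ 0) :
    (nel Q e f i j t).1 (e i) = (-t⁻¹) • e j := by
  rw [H.nel_apply, H.L_fix hi hj hij _ (H.ef0 hi hj hij) (H.ee i hi i hi), H.L_e hj hi hij.symm, map_add,
    map_smul, H.L_fix hi hj hij _ (H.ef0 hi hj hij) (H.ee i hi i hi), H.L_e hi hj hij, smul_add, smul_smul,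
    neg_mul, inv_mul_cancel₀ ht]
  module

theorem nel_fi {i j : ℕ} (hi : i < m) (hj : j < m) (hij : i ≠ j) {t : F} (ht : t ≠ 0) :
    (nel Q e f i j t).1 (f i) = (-t) • f j := by
  rw [H.nel_apply, H.L_f hi hj hij, map_sub, map_smul,
    H.L_fix hj hi hij.symm _ (H.ff i hi i hi) (H.fe0 hi hj hij), H.L_f hj hi hij.symm, smul_sub, smul_smul,
    mul_neg, mul_inv_cancel₀ ht,
    show f i - (t • f j - (-1 : F) • f i) = (-t) • f j by module, map_smul,
    H.L_fix hi hj hij _ (H.ff j hj j hj) (H.fe0 hj hi hij.symm)]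

theorem nel_fj {i j : ℕ} (hi : i < m) (hj : j < m) (hij : i ≠ j) {t : F} (ht : t ≠ 0) :
    (nel Q e f i j t).1 (f j) = t⁻¹ • f i := by
  rw [H.nel_apply, H.L_fix hi hj hij _ (H.ff j hj j hj) (H.fe0 hj hi hij.symm), H.L_f hj hi hij.symm, map_sub,
    map_smul, H.L_fix hi hj hij _ (H.ff j hj j hj) (H.fe0 hj hi hij.symm), H.L_f hi hj hij, smul_sub, smul_smul,
    neg_mul, inv_mul_cancel₀ ht]
  module

theorem nel_fix {i j : ℕ} (hi : i < m) (hj : j < m) (hij : i ≠ j) (t : F) {x : V}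
    (h1 : polar Q x (e i) = 0) (h2 : polar Q x (f i) = 0) (h3 : polar Q x (e j) = 0) (h4 : polar Q x (f j) = 0) :
    (nel Q e f i j t).1 x = x := by
  rw [H.nel_apply, H.L_fix hi hj hij _ h4 h1, H.L_fix hj hi hij.symm _ h2 h3, H.L_fix hi hj hij _ h4 h1]

theorem nel_ek {i j k : ℕ} (hi : i < m) (hj : j < m) (hij : i ≠ j) (t : F) (hk : k < m) (hki : k ≠ i)
    (hkj : k ≠ j) : (nel Q e f i j t).1 (e k) = e k :=
  H.nel_fix hi hj hij t (H.ee k hk i hi) (H.ef0 hk hi hki) (H.ee k hk j hj) (H.ef0 hk hj hkj)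

theorem nel_fk {i j k : ℕ} (hi : i < m) (hj : j < m) (hij : i ≠ j) (t : F) (hk : k < m) (hki : k ≠ i)
    (hkj : k ≠ j) : (nel Q e f i j t).1 (f k) = f k :=
  H.nel_fix hi hj hij t (H.fe0 hk hi hki) (H.ff k hk i hi) (H.fe0 hk hj hkj) (H.ff k hk j hj)

theorem nel_W {i j : ℕ} (hi : i < m) (hj : j < m) (hij : i ≠ j) (t : F) {w : V} (hw : InW Q m e f w) :
    (nel Q e f i j t).1 w = w :=
  H.nel_fix hi hj hij t (H.We hw hi) (H.Wf hw hi) (H.We hw hj) (H.Wf hw hj)

theorem hel_apply (i j : ℕ) (t : F) (x : V) :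
    (hel Q e f i j t).1 x = (nel Q e f i j t).1 ((nel Q e f i j (-1)).1 x) := rfl

theorem hel_ei {i j : ℕ} (hi : i < m) (hj : j < m) (hij : i ≠ j) {t : F} (ht : t ≠ 0) :
    (hel Q e f i j t).1 (e i) = t • e i := by
  rw [H.hel_apply, H.nel_ei hi hj hij (neg_ne_zero.2 one_ne_zero), map_smul, H.nel_ej hi hj hij ht,
    inv_neg, inv_one, neg_neg, one_smul]

theorem hel_ej {i j : ℕ} (hi : i < m) (hj : j < m) (hij : i ≠ j) {t : F} (ht : t ≠ 0) :
    (hel Q e f i j t).1 (e j) = t⁻¹ • e j := by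
  rw [H.hel_apply, H.nel_ej hi hj hij (neg_ne_zero.2 one_ne_zero), map_smul, H.nel_ei hi hj hij ht, smul_smul,
    neg_mul_neg, one_mul]

theorem hel_fi {i j : ℕ} (hi : i < m) (hj : j < m) (hij : i ≠ j) {t : F} (ht : t ≠ 0) :
    (hel Q e f i j t).1 (f i) = t⁻¹ • f i := by
  rw [H.hel_apply, H.nel_fi hi hj hij (neg_ne_zero.2 one_ne_zero), map_smul, H.nel_fj hi hj hij ht, neg_neg,
    one_smul]

theorem hel_fj {i j : ℕ} (hi : i < m) (hj : j < m) (hij : i ≠ j) {t : F} (ht : t ≠ 0) :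
    (hel Q e f i j t).1 (f j) = t • f j := by
  rw [H.hel_apply, H.nel_fj hi hj hij (neg_ne_zero.2 one_ne_zero), map_smul, H.nel_fi hi hj hij ht, smul_smul,
    inv_neg, inv_one, neg_mul_neg, one_mul]

theorem hel_ek {i j k : ℕ} (hi : i < m) (hj : j < m) (hij : i ≠ j) (t : F) (hk : k < m) (hki : k ≠ i)
    (hkj : k ≠ j) : (hel Q e f i j t).1 (e k) = e k := by
  rw [H.hel_apply, H.nel_ek hi hj hij _ hk hki hkj, H.nel_ek hi hj hij _ hk hki hkj]

theorem hel_fk {i j k : ℕ} (hi : i < m) (hj : j < m) (hij : i ≠ j) (t : F) (hk : k < m) (hki : k ≠ i)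
    (hkj : k ≠ j) : (hel Q e f i j t).1 (f k) = f k := by
  rw [H.hel_apply, H.nel_fk hi hj hij _ hk hki hkj, H.nel_fk hi hj hij _ hk hki hkj]

theorem hel_W {i j : ℕ} (hi : i < m) (hj : j < m) (hij : i ≠ j) (t : F) {w : V} (hw : InW Q m e f w) :
    (hel Q e f i j t).1 w = w := by
  rw [H.hel_apply, H.nel_W hi hj hij _ hw, H.nel_W hi hj hij _ hw]

theorem hel_pow_eq_one {i j : ℕ} (hi : i < m) (hj : j < m) (hij : i ≠ j) {t : F} (ht : t ≠ 0) {k : ℕ}
    (hk : t ^ k = 1) : hel Q e f i j t ^ k = 1 := by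
  have fixd : ∀ x : V, (hel Q e f i j t).1 x = x → (hel Q e f i j t ^ k).1 x = x := fun x hx => by
    rw [pow_apply_smul _ (c := (1 : F)) (by rw [one_smul]; exact hx), one_pow, one_smul]
  refine H.ext (fun l hl => ?_) (fun l hl => ?_) fun w hw => fixd w (H.hel_W hi hj hij t hw)
  · show _ = e l
    rcases eq_or_ne l i with rfl | hli
    · rw [pow_apply_smul _ (H.hel_ei hi hj hij ht), hk, one_smul]
    rcases eq_or_ne l j with rfl | hlj
    · rw [pow_apply_smul _ (H.hel_ej hi hj hij ht), inv_pow, hk, inv_one, one_smul]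
    exact fixd _ (H.hel_ek hi hj hij t hl hli hlj)
  · show _ = f l
    rcases eq_or_ne l i with rfl | hli
    · rw [pow_apply_smul _ (H.hel_fi hi hj hij ht), inv_pow, hk, inv_one, one_smul]
    rcases eq_or_ne l j with rfl | hlj
    · rw [pow_apply_smul _ (H.hel_fj hi hj hij ht), hk, one_smul]
    exact fixd _ (H.hel_fk hi hj hij t hl hli hlj)

theorem wS_W : ∀ {k : ℕ}, k < m → ∀ {w : V}, InW Q m e f w → (wS Q e f k).1 w = w
  | 0, _, w, _ => rfl
  | k + 1, hk, w, hw => by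
    rw [wS, Subgroup.coe_mul, LinearEquiv.mul_apply, H.nel_W hk (by omega) (by omega) _ hw,
      wS_W (by omega) hw]

theorem wS_gt : ∀ {k : ℕ}, k < m → ∀ {i : ℕ}, k < i → i < m →
    (wS Q e f k).1 (e i) = e i ∧ (wS Q e f k).1 (f i) = f i
  | 0, _, i, _, _ => ⟨rfl, rfl⟩
  | k + 1, hk, i, hki, hi => by
    rw [wS, Subgroup.coe_mul, LinearEquiv.mul_apply, LinearEquiv.mul_apply,
      H.nel_ek hk (by omega) (by omega) _ hi (by omega) (by omega),
      H.nel_fk hk (by omega) (by omega) _ hi (by omega) (by omega)]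
    exact wS_gt (by omega) (by omega) hi

theorem wS_lt : ∀ {k : ℕ}, k < m → ∀ {i : ℕ}, i < k →
    (wS Q e f k).1 (e i) = e (i + 1) ∧ (wS Q e f k).1 (f i) = f (i + 1)
  | 0, _, i, hi => absurd hi (Nat.not_lt_zero i)
  | k + 1, hk, i, hi => by
    rw [wS, Subgroup.coe_mul, LinearEquiv.mul_apply, LinearEquiv.mul_apply]
    rcases eq_or_ne i k with rfl | hik
    · rw [H.nel_ej hk (by omega) (by omega) one_ne_zero, H.nel_fj hk (by omega) (by omega) one_ne_zero, inv_one,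
        one_smul, one_smul]
      exact H.wS_gt (by omega) (by omega) hk
    · rw [H.nel_ek hk (by omega) (by omega) _ (by omega) (by omega) hik,
        H.nel_fk hk (by omega) (by omega) _ (by omega) (by omega) hik]
      exact wS_lt (by omega) (by omega)

theorem wS_last : ∀ {k : ℕ}, k < m →
    (wS Q e f k).1 (e k) = (-1 : F) ^ k • e 0 ∧ (wS Q e f k).1 (f k) = (-1 : F) ^ k • f 0
  | 0, _ => by rw [pow_zero, one_smul, one_smul]; exact ⟨rfl, rfl⟩
  | k + 1, hk => by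
    obtain ⟨h1, h2⟩ := wS_last (k := k) (by omega)
    rw [wS, Subgroup.coe_mul, LinearEquiv.mul_apply, LinearEquiv.mul_apply,
      H.nel_ei hk (by omega) (by omega) one_ne_zero, H.nel_fi hk (by omega) (by omega) one_ne_zero,
      map_smul, map_smul, h1, h2, smul_smul, smul_smul, inv_one, pow_succ', neg_one_mul]
    exact ⟨rfl, rfl⟩

/-! ### spreading -/

theorem nel_mem {E : Subgroup (oGroup Q)} {i j : ℕ}
    (h1 : ∀ c : F, sg Q (f j) (c • e i) ∈ E) (h2 : ∀ c : F, sg Q (f i) (c • e j) ∈ E) (t : F) :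
    nel Q e f i j t ∈ E := mul_mem (mul_mem (h1 _) (h2 _)) (h1 _)

theorem L_trans {E : Subgroup (oGroup Q)} {i j k : ℕ} (hi : i < m) (hj : j < m) (hk : k < m)
    (hij : i ≠ j) (hjk : j ≠ k) (hik : i ≠ k)
    (h1 : ∀ c : F, sg Q (f j) (c • e i) ∈ E) (h2 : ∀ c : F, sg Q (f k) (c • e j) ∈ E) (c : F) :
    sg Q (f k) (c • e i) ∈ E := by
  have h := conj_sg_mem (h1 c) (H.qf k hk) (H.L_polar hj hk hjk 1) (h2 1)
  rw [H.L_fix hi hj hij c (H.ff k hk j hj) (H.fe0 hk hi hik.symm), map_smul, H.L_e hi hj hij, one_smul,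
    sg_add (H.qf k hk) (H.fe0 hk hj hjk.symm) (H.L_polar hi hk hik c)] at h
  exact (Subgroup.mul_mem_cancel_left E (by simpa using h2 1)).1 h

/-- all root elements within the halves, from a downward cycle -/
theorem L_all_down {E : Subgroup (oGroup Q)}
    (step : ∀ i, i + 1 < m → ∀ c : F, sg Q (f i) (c • e (i + 1)) ∈ E)
    (last : ∀ c : F, sg Q (f (m - 1)) (c • e 0) ∈ E) :
    ∀ i < m, ∀ j < m, i ≠ j → ∀ c : F, sg Q (f j) (c • e i) ∈ E := fun i hi j hj hij =>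
  all_of_cycle (fun a b => ∀ c : F, sg Q (f a) (c • e b) ∈ E)
    (fun _ hi _ hj _ hk hij hjk hik h1 h2 => H.L_trans hk hj hi hjk.symm hij.symm hik.symm h2 h1)
    step last j hj i hi hij.symm

/-- all root elements within the halves, from an upward cycle -/
theorem L_all_up {E : Subgroup (oGroup Q)}
    (step : ∀ i, i + 1 < m → ∀ c : F, sg Q (f (i + 1)) (c • e i) ∈ E)
    (last : ∀ c : F, sg Q (f 0) (c • e (m - 1)) ∈ E) :
    ∀ i < m, ∀ j < m, i ≠ j → ∀ c : F, sg Q (f j) (c • e i) ∈ E :=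
  all_of_cycle (fun a b => ∀ c : F, sg Q (f b) (c • e a) ∈ E)
    (fun _ hi _ hj _ hk hij hjk hik h1 h2 => H.L_trans hi hj hk hij hjk hik h1 h2) step last

theorem A_spread {E : Subgroup (oGroup Q)} {z : V} (hz : InW Q m e f z) {i₀ : ℕ} (hi₀ : i₀ < m)
    (hL : ∀ i < m, ∀ j < m, i ≠ j → ∀ c : F, sg Q (f j) (c • e i) ∈ E)
    (h : ∀ c : F, sg Q (e i₀) (c • z) ∈ E) : ∀ i < m, ∀ c : F, sg Q (e i) (c • z) ∈ E := by
  intro i hi c
  rcases eq_or_ne i i₀ with rfl | hne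
  · exact h c
  have h' := conj_sg_mem (nel_mem H (hL i hi i₀ hi₀ hne) (hL i₀ hi₀ i hi hne.symm) 1) (H.qe i₀ hi₀)
    (H.A_polar hi₀ hz c) (h c)
  rwa [H.nel_ej hi hi₀ hne one_ne_zero, one_smul, map_smul, H.nel_W hi hi₀ hne 1 hz] at h'

theorem B_spread {E : Subgroup (oGroup Q)} {z : V} (hz : InW Q m e f z) {i₀ : ℕ} (hi₀ : i₀ < m)
    (hL : ∀ i < m, ∀ j < m, i ≠ j → ∀ c : F, sg Q (f j) (c • e i) ∈ E)
    (h : ∀ c : F, sg Q (f i₀) (c • z) ∈ E) : ∀ i < m, ∀ c : F, sg Q (f i) (c • z) ∈ E := by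
  intro i hi c
  rcases eq_or_ne i i₀ with rfl | hne
  · exact h c
  have h' := conj_sg_mem (nel_mem H (hL i hi i₀ hi₀ hne) (hL i₀ hi₀ i hi hne.symm) 1) (H.qf i₀ hi₀)
    (H.B_polar hi₀ hz c) (h c)
  rwa [H.nel_fj hi hi₀ hne one_ne_zero, inv_one, one_smul, map_smul, H.nel_W hi hi₀ hne 1 hz] at h'

theorem P_symm {E : Subgroup (oGroup Q)} {i j : ℕ} (hi : i < m) (hj : j < m)
    (h : ∀ c : F, sg Q (e i) (c • e j) ∈ E) (c : F) : sg Q (e j) (c • e i) ∈ E := by
  rw [← sg_scale c (H.qe j hj) (H.ee j hj i hi),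
    sg_swap (by rw [q_smul, H.qe j hj, mul_zero]) (H.qe i hi) (by rw [b_smul_left, H.ee j hj i hi, mul_zero]),
    ← neg_smul]
  exact h _

theorem P_spread {E : Subgroup (oGroup Q)} {i₀ j₀ : ℕ} (hi₀ : i₀ < m) (hj₀ : j₀ < m) (hne₀ : i₀ ≠ j₀)
    (hL : ∀ i < m, ∀ j < m, i ≠ j → ∀ c : F, sg Q (f j) (c • e i) ∈ E)
    (h : ∀ c : F, sg Q (e i₀) (c • e j₀) ∈ E) : ∀ i < m, ∀ j < m, i ≠ j → ∀ c : F, sg Q (e i) (c • e j) ∈ E := by
  have row : ∀ i < m, ∀ j₁ < m, i ≠ j₁ → (∀ c : F, sg Q (e i) (c • e j₁) ∈ E) →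
      ∀ j < m, i ≠ j → ∀ c : F, sg Q (e i) (c • e j) ∈ E := by
    intro i hi j₁ hj₁ hij₁ h j hj hij c
    rcases eq_or_ne j j₁ with rfl | hne
    · exact h c
    have h' := conj_sg_mem (nel_mem H (hL j hj j₁ hj₁ hne) (hL j₁ hj₁ j hj hne.symm) 1) (H.qe i hi)
      (H.P_polar hi hj₁ c) (h c)
    rwa [map_smul, H.nel_ej hj hj₁ hne one_ne_zero, one_smul, H.nel_ek hj hj₁ hne 1 hi hij hij₁] at h'
  intro i hi
  rcases eq_or_ne i i₀ with rfl | hne
  · exact row i hi j₀ hj₀ hne₀ h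
  · exact row i hi i₀ hi₀ hne (H.P_symm hi₀ hi (row i₀ hi₀ j₀ hj₀ hne₀ h i hi hne.symm))

end Hyp

end Cfsg.Agent.TwoGenOrth
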