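import Cfsg.Agent.Lib.Classical.TwoGenOrth.TwoElem
import Cfsg.Agent.Lib.Orthogonal.Counts
import Cfsg.Agent.Lib.Orthogonal.POmega
import Cfsg.Agent.Lib.Lie.NatRepB2
import Cfsg.Agent.Lib.Lie.NatRepD4
import Cfsg.Agent.Lib.Lie.ChevTwoGenTypes

/-!
Two generation of the projective Omega groups of the standard forms.
-/

set_option autoImplicit false

namespace Cfsg.Agent.TwoGenOrth

open QuadraticMap Module Cfsg.Agent.Orth

variable {F : Type*} [Field F]

section Frame

variable {κ : Type} {QW : QuadraticForm F (κ → F)}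

theorem polar_qPad (m : ℕ) (v w : (Fin m ⊕ Fin m) ⊕ κ → F) :
    polar (qPad F m QW) v w =
      (∑ i : Fin m, (v (.inl (.inl i)) * w (.inl (.inr i)) + w (.inl (.inl i)) * v (.inl (.inr i)))) +
        polar QW (v ∘ Sum.inr) (w ∘ Sum.inr) := by
  have hc : (v + w) ∘ Sum.inr = v ∘ Sum.inr + w ∘ Sum.inr := rfl
  simp only [polar, qPad_apply, hc]
  have : ∀ i : Fin m, (v + w) (.inl (.inl i)) * (v + w) (.inl (.inr i)) =
      v (.inl (.inl i)) * v (.inl (.inr i)) + w (.inl (.inl i)) * w (.inl (.inr i)) +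
        (v (.inl (.inl i)) * w (.inl (.inr i)) + w (.inl (.inl i)) * v (.inl (.inr i))) := fun i => by
    simp only [Pi.add_apply]; ring
  rw [Finset.sum_congr rfl fun i _ => this i, Finset.sum_add_distrib, Finset.sum_add_distrib]
  ring

open scoped Classical in
/-- the standard vectors of the left half -/
noncomputable def eStd (F : Type*) [Field F] (m : ℕ) (κ : Type) (i : ℕ) : (Fin m ⊕ Fin m) ⊕ κ → F :=
  if h : i < m then Pi.single (.inl (.inl ⟨i, h⟩)) 1 else 0

open scoped Classical in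
/-- the standard vectors of the right half -/
noncomputable def fStd (F : Type*) [Field F] (m : ℕ) (κ : Type) (i : ℕ) : (Fin m ⊕ Fin m) ⊕ κ → F :=
  if h : i < m then Pi.single (.inl (.inr ⟨i, h⟩)) 1 else 0

theorem qPad_eStd {m i : ℕ} (h : i < m) : qPad F m QW (eStd F m κ i) = 0 := by
  classical
  rw [qPad_apply, eStd, dif_pos h]
  simp only [ne_eq, reduceCtorEq, not_false_eq_true, Pi.single_eq_of_ne, Sum.inl.injEq, mul_zero,
    Finset.sum_const_zero, zero_add]
  convert map_zero QW using 2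
  funext k
  simp

theorem qPad_fStd {m i : ℕ} (h : i < m) : qPad F m QW (fStd F m κ i) = 0 := by
  classical
  rw [qPad_apply, fStd, dif_pos h]
  simp only [ne_eq, reduceCtorEq, not_false_eq_true, Pi.single_eq_of_ne, Sum.inl.injEq, zero_mul,
    Finset.sum_const_zero, zero_add]
  convert map_zero QW using 2
  funext k
  simp

theorem polar_eStd {m i : ℕ} (h : i < m) (v : (Fin m ⊕ Fin m) ⊕ κ → F) :
    polar (qPad F m QW) v (eStd F m κ i) = v (.inl (.inr ⟨i, h⟩)) := by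
  classical
  rw [polar_qPad, eStd, dif_pos h]
  have h0 : ((Pi.single (.inl (.inl ⟨i, h⟩)) 1 : (Fin m ⊕ Fin m) ⊕ κ → F) ∘ Sum.inr) = 0 := by funext k; simp
  rw [h0, b_zero_right, add_zero, Finset.sum_eq_single (⟨i, h⟩ : Fin m)]
  · simp
  · intro k _ hk; simp [Pi.single_apply, hk]
  · simp

theorem polar_fStd {m i : ℕ} (h : i < m) (v : (Fin m ⊕ Fin m) ⊕ κ → F) :
    polar (qPad F m QW) v (fStd F m κ i) = v (.inl (.inl ⟨i, h⟩)) := by
  classical
  rw [polar_qPad, fStd, dif_pos h]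
  have h0 : ((Pi.single (.inl (.inr ⟨i, h⟩)) 1 : (Fin m ⊕ Fin m) ⊕ κ → F) ∘ Sum.inr) = 0 := by funext k; simp
  rw [h0, b_zero_right, add_zero, Finset.sum_eq_single (⟨i, h⟩ : Fin m)]
  · simp
  · intro k _ hk; simp [Pi.single_apply, hk]
  · simp

variable {V : Type*} [AddCommGroup V] [Module F V] {Q : QuadraticForm F V} {m : ℕ}
  {φ : ((Fin m ⊕ Fin m) ⊕ κ → F) ≃ₗ[F] V}

theorem polar_map (hφ : ∀ v, Q (φ v) = qPad F m QW v) (v w : (Fin m ⊕ Fin m) ⊕ κ → F) :
    polar Q (φ v) (φ w) = polar (qPad F m QW) v w := by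
  simp only [polar, ← map_add, hφ]

theorem hyp_std (hφ : ∀ v, Q (φ v) = qPad F m QW v) :
    Hyp Q m (fun i => φ (eStd F m κ i)) (fun i => φ (fStd F m κ i)) where
  qe i hi := by rw [hφ, qPad_eStd hi]
  qf i hi := by rw [hφ, qPad_fStd hi]
  ee i hi j hj := by
    classical
    rw [polar_map hφ, polar_eStd hj, eStd, dif_pos hi]
    simp
  ff i hi j hj := by
    classical
    rw [polar_map hφ, polar_fStd hj, fStd, dif_pos hi]
    simp
  ef i hi j hj := by
    classical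
    rw [polar_map hφ, polar_fStd hj, eStd, dif_pos hi]
    simp [Pi.single_apply, eq_comm]

theorem inW_iff (hφ : ∀ v, Q (φ v) = qPad F m QW v) {v : (Fin m ⊕ Fin m) ⊕ κ → F} :
    InW Q m (fun i => φ (eStd F m κ i)) (fun i => φ (fStd F m κ i)) (φ v) ↔ ∀ x, v (.inl x) = 0 := by
  refine ⟨?_, fun h i hi => ⟨?_, ?_⟩⟩
  · rintro h (x | x)
    · have := (h x x.2).2
      rwa [polar_map hφ, polar_fStd x.2] at this
    · have := (h x x.2).1
      rwa [polar_map hφ, polar_eStd x.2] at this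
  · rw [polar_map hφ, polar_eStd hi, h]
  · rw [polar_map hφ, polar_fStd hi, h]

theorem inW_core (hφ : ∀ v, Q (φ v) = qPad F m QW v) (z : κ → F) :
    InW Q m (fun i => φ (eStd F m κ i)) (fun i => φ (fStd F m κ i)) (φ (Sum.elim 0 z)) :=
  (inW_iff hφ).2 fun _ => rfl

theorem q_core (hφ : ∀ v, Q (φ v) = qPad F m QW v) (z : κ → F) : Q (φ (Sum.elim 0 z)) = QW z := by
  rw [hφ, qPad_apply]
  simp

theorem polar_core (hφ : ∀ v, Q (φ v) = qPad F m QW v) (z z' : κ → F) :
    polar Q (φ (Sum.elim 0 z)) (φ (Sum.elim 0 z')) = polar QW z z' := by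
  rw [polar_map hφ, polar_qPad]
  simp

theorem span_core (hφ : ∀ v, Q (φ v) = qPad F m QW v) {z₁ z₂ : κ → F}
    (h : ∀ x : κ → F, ∃ s t : F, x = s • z₁ + t • z₂) {w : V}
    (hw : InW Q m (fun i => φ (eStd F m κ i)) (fun i => φ (fStd F m κ i)) w) :
    ∃ s t : F, w = s • φ (Sum.elim 0 z₁) + t • φ (Sum.elim 0 z₂) := by
  obtain ⟨v, rfl⟩ := φ.surjective w
  obtain ⟨s, t, hst⟩ := h (v ∘ Sum.inr)
  refine ⟨s, t, ?_⟩
  rw [← map_smul, ← map_smul, ← map_add]
  refine congrArg φ (funext fun x => ?_)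
  rcases x with x | k
  · simp [(inW_iff hφ).1 hw x]
  · exact congrFun hst k

end Frame

theorem two_or_gen (F : Type*) [Field F] [Fintype F] :
    (∀ x : F, x = 0 ∨ x = 1) ∨
      ∃ θ : F, θ ≠ 0 ∧ θ ≠ 1 ∧ ∀ c : F, c ≠ 0 → ∃ k : ℕ, θ ^ k = c := by
  classical
  obtain ⟨θ, hθ⟩ := IsCyclic.exists_generator (α := Fˣ)
  have gen : ∀ c : F, c ≠ 0 → ∃ k : ℕ, (θ : F) ^ k = c := fun c hc => by
    obtain ⟨k, hk⟩ := Submonoid.mem_powers_iff _ _ |>.1
      ((mem_powers_iff_mem_zpowers (x := θ)).2 (hθ (Units.mk0 c hc)))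
    exact ⟨k, by rw [← Units.val_pow_eq_pow_val, hk, Units.val_mk0]⟩
  by_cases h1 : (θ : F) = 1
  · left
    intro x
    by_cases hx : x = 0
    · exact Or.inl hx
    · obtain ⟨k, hk⟩ := gen x hx
      right
      rw [← hk, h1, one_pow]
  · exact Or.inr ⟨θ, θ.ne_zero, h1, gen⟩

theorem two_of_surjective {G H : Type*} [Group G] [Group H] (φ : G →* H) (hφ : Function.Surjective φ)
    (h : ∃ a b : G, Subgroup.closure ({a, b} : Set G) = ⊤) :
    ∃ a b : H, Subgroup.closure ({a, b} : Set H) = ⊤ := by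
  obtain ⟨a, b, hab⟩ := h
  exact ⟨φ a, φ b, by rw [← Set.image_pair, ← MonoidHom.map_closure, hab,
    Subgroup.map_top_of_surjective φ hφ]⟩

theorem two_of_le {G : Type*} [Group G] {S : Subgroup G}
    (h : ∃ a ∈ S, ∃ b ∈ S, S ≤ Subgroup.closure {a, b}) :
    ∃ a b : S, Subgroup.closure ({a, b} : Set S) = ⊤ := by
  obtain ⟨a, ha, b, hb, hle⟩ := h
  refine ⟨⟨a, ha⟩, ⟨b, hb⟩, Subgroup.map_injective S.subtype_injective ?_⟩
  rw [MonoidHom.map_closure, Set.image_pair, ← MonoidHom.range_eq_map, Subgroup.range_subtype]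
  refine le_antisymm ((Subgroup.closure_le _).2 ?_) hle
  simp [Set.insert_subset_iff, ha, hb]

section Transfer

variable {ι : Type} [Fintype ι] [DecidableEq ι] [Fintype F] {Q : QuadraticForm F (ι → F)}

theorem pomega_two (hQ : (polarBilin Q).Nondegenerate) (hn : 5 ≤ Fintype.card ι)
    (h : ∃ a ∈ siegelGroup Q, ∃ b ∈ siegelGroup Q, siegelGroup Q ≤ Subgroup.closure {a, b}) :
    ∃ a b : Cfsg.POmega F (⇑Q), Subgroup.closure ({a, b} : Set (Cfsg.POmega F (⇑Q))) = ⊤ := by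
  rw [siegelGroup_eq hQ (by rwa [finrank_fintype_fun_eq_card])] at h
  have h1 := two_of_surjective (omegaEquiv Q).symm.toMonoidHom (omegaEquiv Q).symm.surjective (two_of_le h)
  exact two_of_surjective (QuotientGroup.mk' _) (QuotientGroup.mk'_surjective _) h1

end Transfer

variable [Fintype F]

theorem two_ne_zero_of_odd (hodd : Odd (Fintype.card F)) : (2 : F) ≠ 0 := by
  intro h2
  haveI : CharP F 2 := CharTwo.of_one_ne_zero_of_two_eq_zero one_ne_zero h2
  have h := FiniteField.cast_card_eq_zero F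
  obtain ⟨k, hk⟩ := hodd
  rw [hk, Nat.cast_add, Nat.cast_mul, Nat.cast_ofNat, h2, zero_mul, zero_add, Nat.cast_one] at h
  exact one_ne_zero h

theorem exists_ne_zero_one_of_odd (hodd : Odd (Fintype.card F)) : ∃ x : F, x ≠ 0 ∧ x ≠ 1 := by
  have h2 := two_ne_zero_of_odd hodd
  refine ⟨2, h2, fun h => one_ne_zero (α := F) ?_⟩
  linear_combination h

/-- `PΩ_{2m+1}(q)` is two-generated -/
theorem pomega_odd_two (hodd : Odd (Fintype.card F)) (m : ℕ) (hm : 2 ≤ m) :
    ∃ a b : Cfsg.POmega F (Cfsg.quadFormOdd m F),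
      Subgroup.closure ({a, b} : Set (Cfsg.POmega F (Cfsg.quadFormOdd m F))) = ⊤ := by
  rcases eq_or_lt_of_le hm with rfl | hm3
  · obtain ⟨e⟩ := Chev.B2Data.equiv_pomega F (exists_ne_zero_one_of_odd hodd)
    exact two_of_surjective e.toMonoidHom e.surjective
      (Chev.exists_two_generators_chev (by simp) fun _ => exists_ne_zero_one_of_odd hodd)
  · have h2 := two_ne_zero_of_odd hodd
    have hφ : ∀ v, qOdd F m (oddPad m v) = qPad F m (qSq F) v := oddPad_spec m
    have hQ := qOdd_nondeg h2 m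
    have hn : 5 ≤ Fintype.card (Unit ⊕ (Fin m ⊕ Fin m)) := by simp; omega
    rw [← coe_qOdd]
    refine pomega_two hQ hn ?_
    rcases two_or_gen F with two | ⟨θ, h0, h1, gen⟩
    · exact absurd (two_eq_zero two) h2
    have hz : ∀ x : Unit → F, ∃ s t : F, x = s • (fun _ => (1 : F)) + t • (fun _ => (1 : F)) :=
      fun x => ⟨x (), 0, funext fun u => by simp⟩
    exact (hyp_std hφ).two_gen_pair hQ (by rw [finrank_fintype_fun_eq_card]; exact hn) hm3 h0 h1 gen
      (inW_core hφ fun _ => 1) (inW_core hφ fun _ => 1)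
      (by rw [q_core hφ, qSq_apply]; simp) (by rw [q_core hφ, qSq_apply]; simp)
      (by rw [polar_core hφ, b_self, qSq_apply]; simpa using h2) fun w hw => span_core hφ hz hw

/-- `PΩ⁺_{2m}(q)` is two-generated -/
theorem pomega_plus_two (m : ℕ) (hm : 4 ≤ m) :
    ∃ a b : Cfsg.POmega F (Cfsg.quadFormPlus m F),
      Subgroup.closure ({a, b} : Set (Cfsg.POmega F (Cfsg.quadFormPlus m F))) = ⊤ := by
  rcases eq_or_lt_of_le hm with rfl | hm5
  · obtain ⟨e⟩ := Chev.D4Data.equiv_pomega (F := F)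
    exact two_of_surjective e.toMonoidHom e.surjective
      (Chev.Tab.exists_two_generators_of_isTwoGen Chev.isTwoGen_D4)
  · have hφ : ∀ v, qPlus F m (plusPad m v) = qPad F m (0 : QuadraticForm F (Fin 0 → F)) v := plusPad_spec m
    have hQ := qPlus_nondeg (F := F) m
    have hn : 5 ≤ Fintype.card (Fin m ⊕ Fin m) := by simp; omega
    have hn' : 5 ≤ finrank F (Fin m ⊕ Fin m → F) := by rw [finrank_fintype_fun_eq_card]; exact hn
    rw [← coe_qPlus]
    refine pomega_two hQ hn ?_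
    have hW : ∀ v, InW (qPlus F m) m (fun i => plusPad m (eStd F m (Fin 0) i))
        (fun i => plusPad m (fStd F m (Fin 0) i)) v → v = 0 := fun v hv => by
      obtain ⟨v, rfl⟩ := (plusPad m).surjective v
      rw [map_eq_zero_iff _ (plusPad m).injective]
      funext x
      rcases x with x | k
      · exact (inW_iff hφ).1 hv x
      · exact k.elim0
    rcases two_or_gen F with two | ⟨θ, h0, h1, gen⟩
    · exact (hyp_std hφ).two_gen_split_two two hQ hn' hm5 hW
    · exact (hyp_std hφ).two_gen_split hQ hn' (by omega) h0 h1 gen hW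

/-- `PΩ⁻_{2m+2}(q)` is two-generated -/
theorem pomega_minus_two (m : ℕ) (hm : 3 ≤ m) (a b : F)
    (hab : ∀ z₁ z₂ : F, z₁ ^ 2 + a * z₁ * z₂ + b * z₂ ^ 2 = 0 → z₁ = 0 ∧ z₂ = 0) :
    ∃ g h : Cfsg.POmega F (Cfsg.quadFormMinus m F a b),
      Subgroup.closure ({g, h} : Set (Cfsg.POmega F (Cfsg.quadFormMinus m F a b))) = ⊤ := by
  have hφ : ∀ v, qMinus F m a b (LinearEquiv.refl F _ v) = qPad F m (qBin F a b) v := fun v => rfl
  have hQ := qMinus_nondeg hab m
  have hn : 5 ≤ Fintype.card ((Fin m ⊕ Fin m) ⊕ Fin 2) := by simp; omega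
  have hn' : 5 ≤ finrank F ((Fin m ⊕ Fin m) ⊕ Fin 2 → F) := by rw [finrank_fintype_fun_eq_card]; exact hn
  rw [← coe_qMinus]
  refine pomega_two hQ hn ?_
  obtain ⟨t, ht⟩ : ∃ t : F, 2 * t + a ≠ 0 := by
    by_cases ha : a = 0
    · refine ⟨1, fun h => disc_ne hab ?_⟩
      rw [ha] at h ⊢
      linear_combination -2 * b * h
    · exact ⟨0, by simpa using ha⟩
  have hz1 : qBin F a b ![1, 0] ≠ 0 := fun h => one_ne_zero (α := F) (congrFun (qBin_aniso hab h) 0)
  have hz2 : qBin F a b ![t, 1] ≠ 0 := fun h => one_ne_zero (α := F) (congrFun (qBin_aniso hab h) 1)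
  have hβ : polar (qBin F a b) ![1, 0] ![t, 1] ≠ 0 := by
    rw [polar_qBin]
    simpa using ht
  have hz : ∀ x : Fin 2 → F, ∃ s u : F, x = s • ![1, 0] + u • ![t, 1] :=
    fun x => ⟨x 0 - x 1 * t, x 1, funext fun i => by fin_cases i <;> simp⟩
  have q1 := (q_core hφ (![1, 0] : Fin 2 → F)).trans_ne hz1
  have q2 := (q_core hφ (![t, 1] : Fin 2 → F)).trans_ne hz2
  have hb := (polar_core hφ (![1, 0] : Fin 2 → F) ![t, 1]).trans_ne hβ
  rcases two_or_gen F with two | ⟨θ, h0, h1, gen⟩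
  · exact (hyp_std hφ).two_gen_pair_two two hQ hn' hm (inW_core hφ _) (inW_core hφ _) q1 q2 hb
      fun w hw => span_core hφ hz hw
  · exact (hyp_std hφ).two_gen_pair hQ hn' hm h0 h1 gen (inW_core hφ _) (inW_core hφ _) q1 q2 hb
      fun w hw => span_core hφ hz hw

end Cfsg.Agent.TwoGenOrth
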