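import Cfsg.Agent.Lib.Classical.TwoGenOrth.Cases

/-!
Two explicit generators of Omega over the field with two elements.
-/

set_option autoImplicit false

namespace Cfsg.Agent.TwoGenOrth

open QuadraticMap Module Cfsg.Agent.Orth

variable {F V : Type*} [Field F] [AddCommGroup V] [Module F V] {Q : QuadraticForm F V}

/-- the element of order three on a pair of lines of each half -/
noncomputable def zel (Q : QuadraticForm F V) (e f : ℕ → V) (i j : ℕ) : oGroup Q :=
  sg Q (e i) (e j) * sg Q (f i) (f j)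

section Two

variable (two : ∀ x : F, x = 0 ∨ x = 1)

include two

theorem neg_one_eq : (-1 : F) = 1 := by
  rcases two (-1) with h | h
  · exact absurd h (neg_ne_zero.2 one_ne_zero)
  · exact h

theorem two_eq_zero : (2 : F) = 0 := by
  have := neg_one_eq two
  linear_combination -this

theorem v_add_self (x : V) : x + x = 0 := by rw [← two_smul F x, two_eq_zero two, zero_smul]

theorem v_neg (x : V) : -x = x := neg_eq_of_add_eq_zero_left (v_add_self two x)

theorem v_sub (x y : V) : x - y = x + y := by rw [sub_eq_add_neg, v_neg two y]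

theorem all_c {E : Subgroup (oGroup Q)} {u y : V} (hu : Q u = 0) (h : sg Q u y ∈ E) (c : F) :
    sg Q u (c • y) ∈ E := by
  rcases two c with rfl | rfl
  · rw [zero_smul, sg_zero hu]; exact one_mem _
  · rwa [one_smul]

theorem ne_zero_eq_one {c : F} (hc : c ≠ 0) : c = 1 := (two c).resolve_left hc

namespace Hyp

variable {m : ℕ} {e f : ℕ → V} (H : Hyp Q m e f)

include H

theorem zel_ei {i j : ℕ} (hi : i < m) (hj : j < m) (hij : i ≠ j) :
    (zel Q e f i j).1 (e i) = f j := by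
  show (sg Q (e i) (e j)).1 ((sg Q (f i) (f j)).1 (e i)) = _
  rw [sg_apply (H.qf i hi) (H.ff i hi j hj), H.ef1 hi, H.ef0 hi hj hij, H.qf j hj, one_smul, zero_mul, zero_add,
    zero_smul, sub_zero, map_add, sg_fix (H.qe i hi) (H.ee i hi j hj) (H.ee i hi i hi) (H.ee i hi j hj),
    sg_apply (H.qe i hi) (H.ee i hi j hj), H.fe0 hj hi hij.symm, H.fe1 hj, zero_smul, add_zero, mul_zero,
    add_zero, one_smul, v_sub two, add_left_comm, v_add_self two, add_zero]

theorem zel_fj {i j : ℕ} (hi : i < m) (hj : j < m) (hij : i ≠ j) :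
    (zel Q e f i j).1 (f j) = f j + e i := by
  show (sg Q (e i) (e j)).1 ((sg Q (f i) (f j)).1 (f j)) = _
  rw [sg_fix (H.qf i hi) (H.ff i hi j hj) (H.ff j hj i hi) (H.ff j hj j hj),
    sg_apply (H.qe i hi) (H.ee i hi j hj), H.fe0 hj hi hij.symm, H.fe1 hj, zero_smul, add_zero, mul_zero,
    add_zero, one_smul, v_sub two]

theorem zel_ej {i j : ℕ} (hi : i < m) (hj : j < m) (hij : i ≠ j) :
    (zel Q e f i j).1 (e j) = f i := by
  show (sg Q (e i) (e j)).1 ((sg Q (f i) (f j)).1 (e j)) = _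
  rw [sg_apply (H.qf i hi) (H.ff i hi j hj), H.ef0 hj hi hij.symm, H.ef1 hj, zero_smul, add_zero, mul_zero,
    add_zero, one_smul, v_sub two, map_add, sg_fix (H.qe i hi) (H.ee i hi j hj) (H.ee j hj i hi) (H.ee j hj j hj),
    sg_apply (H.qe i hi) (H.ee i hi j hj), H.fe1 hi, H.fe0 hi hj hij, H.qe j hj, one_smul, zero_mul, zero_add,
    zero_smul, sub_zero, add_left_comm, v_add_self two, add_zero]

theorem zel_fi {i j : ℕ} (hi : i < m) (hj : j < m) (hij : i ≠ j) :
    (zel Q e f i j).1 (f i) = f i + e j := by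
  show (sg Q (e i) (e j)).1 ((sg Q (f i) (f j)).1 (f i)) = _
  rw [sg_fix (H.qf i hi) (H.ff i hi j hj) (H.ff i hi i hi) (H.ff i hi j hj),
    sg_apply (H.qe i hi) (H.ee i hi j hj), H.fe1 hi, H.fe0 hi hj hij, H.qe j hj, one_smul, zero_mul, zero_add,
    zero_smul, sub_zero]

theorem zel_fix {i j : ℕ} (hi : i < m) (hj : j < m) {x : V} (h1 : polar Q x (e i) = 0) (h2 : polar Q x (f i) = 0)
    (h3 : polar Q x (e j) = 0) (h4 : polar Q x (f j) = 0) : (zel Q e f i j).1 x = x := by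
  show (sg Q (e i) (e j)).1 ((sg Q (f i) (f j)).1 x) = _
  rw [sg_fix (H.qf i hi) (H.ff i hi j hj) h2 h4, sg_fix (H.qe i hi) (H.ee i hi j hj) h1 h3]

theorem zel_ek {i j k : ℕ} (hi : i < m) (hj : j < m) (hk : k < m) (hki : k ≠ i) (hkj : k ≠ j) :
    (zel Q e f i j).1 (e k) = e k :=
  H.zel_fix two hi hj (H.ee k hk i hi) (H.ef0 hk hi hki) (H.ee k hk j hj) (H.ef0 hk hj hkj)

theorem zel_fk {i j k : ℕ} (hi : i < m) (hj : j < m) (hk : k < m) (hki : k ≠ i) (hkj : k ≠ j) :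
    (zel Q e f i j).1 (f k) = f k :=
  H.zel_fix two hi hj (H.fe0 hk hi hki) (H.ff k hk i hi) (H.fe0 hk hj hkj) (H.ff k hk j hj)

theorem zel_cube {i j : ℕ} (hi : i < m) (hj : j < m) (hij : i ≠ j) : zel Q e f i j ^ 3 = 1 := by
  have happ : ∀ x, (zel Q e f i j ^ 3).1 x =
      (zel Q e f i j).1 ((zel Q e f i j).1 ((zel Q e f i j).1 x)) := fun x => by
    rw [pow_succ, pow_two]; rfl
  have k1 : ∀ x y : V, y + x + y = x := fun x y => by rw [add_right_comm, v_add_self two, zero_add]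
  refine H.ext (fun l hl => ?_) (fun l hl => ?_) fun w hw => ?_
  · show _ = e l
    rw [happ]
    rcases eq_or_ne l i with rfl | hli
    · rw [H.zel_ei two hi hj hij, H.zel_fj two hi hj hij, map_add, H.zel_fj two hi hj hij,
        H.zel_ei two hi hj hij, k1]
    rcases eq_or_ne l j with rfl | hlj
    · rw [H.zel_ej two hi hj hij, H.zel_fi two hi hj hij, map_add, H.zel_fi two hi hj hij,
        H.zel_ej two hi hj hij, k1]
    rw [H.zel_ek two hi hj hl hli hlj, H.zel_ek two hi hj hl hli hlj, H.zel_ek two hi hj hl hli hlj]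
  · show _ = f l
    rw [happ]
    rcases eq_or_ne l i with rfl | hli
    · rw [H.zel_fi two hi hj hij, map_add, H.zel_fi two hi hj hij, H.zel_ej two hi hj hij, k1,
        H.zel_ej two hi hj hij]
    rcases eq_or_ne l j with rfl | hlj
    · rw [H.zel_fj two hi hj hij, map_add, H.zel_fj two hi hj hij, H.zel_ei two hi hj hij, k1,
        H.zel_ei two hi hj hij]
    rw [H.zel_fk two hi hj hl hli hlj, H.zel_fk two hi hj hl hli hlj, H.zel_fk two hi hj hl hli hlj]
  · show _ = w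
    have := H.zel_fix two hi hj (H.We hw hi) (H.Wf hw hi) (H.We hw hj) (H.Wf hw hj)
    rw [happ, this, this, this]

theorem wlast_two {k : ℕ} (hk : k < m) :
    (wS Q e f k).1 (e k) = e 0 ∧ (wS Q e f k).1 (f k) = f 0 := by
  obtain ⟨h1, h2⟩ := H.wS_last hk
  rw [h1, h2, neg_one_eq two, one_pow, one_smul, one_smul]
  exact ⟨rfl, rfl⟩

variable [FiniteDimensional F V] [Fintype F]

theorem zel_mem_siegel (hQ : (polarBilin Q).Nondegenerate) (hn : 5 ≤ finrank F V) {i j : ℕ} (hi : i < m)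
    (hj : j < m) : zel Q e f i j ∈ siegelGroup Q :=
  mul_mem (H.sg_mem_siegel hQ hn (H.qe i hi) (H.ee i hi j hj)) (H.sg_mem_siegel hQ hn (H.qf i hi) (H.ff i hi j hj))

omit [FiniteDimensional F V] [Fintype F] in
theorem split_pow_three {u y : V} {z : oGroup Q} (hu : Q u = 0) (hy : polar Q u y = 0) (h1 : z.1 u = u)
    (h2 : z.1 y = y) (hz : z ^ 3 = 1) : (z * sg Q u y) ^ 3 = sg Q u y := by
  have hc : Commute z (sg Q u y) := by
    have := sg_conj z hu hy
    rw [h1, h2] at this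
    exact mul_inv_eq_iff_eq_mul.1 this
  rw [hc.mul_pow, hz, one_mul, sg_pow hu hy, show ((3 : ℕ) : F) = 1 by
    rw [Nat.cast_ofNat]; linear_combination two_eq_zero two, one_smul]

/-- **two generators**, minus type over two elements -/
theorem two_gen_pair_two (hQ : (polarBilin Q).Nondegenerate) (hn : 5 ≤ finrank F V) (hm : 3 ≤ m) {z₁ z₂ : V}
    (hz₁ : InW Q m e f z₁) (hz₂ : InW Q m e f z₂) (q₁ : Q z₁ ≠ 0) (q₂ : Q z₂ ≠ 0)
    (hβ : polar Q z₁ z₂ ≠ 0) (hspan : ∀ w, InW Q m e f w → ∃ s t : F, w = s • z₁ + t • z₂) :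
    ∃ a ∈ siegelGroup Q, ∃ b ∈ siegelGroup Q, siegelGroup Q ≤ Subgroup.closure {a, b} := by
  have q₁' := ne_zero_eq_one two q₁
  have q₂' := ne_zero_eq_one two q₂
  have hβ' := ne_zero_eq_one two hβ
  have h0m : 0 < m := by omega
  have h1m : 1 < m := by omega
  have h2m : 2 < m := by omega
  -- the rotation of the core
  obtain ⟨r, hr, rz₁, rz₂, rfix⟩ : ∃ r ∈ siegelGroup Q, r.1 z₁ = z₂ ∧ r.1 z₂ = z₁ + z₂ ∧
      ∀ x, polar Q x z₁ = 0 → polar Q x z₂ = 0 → r.1 x = x := by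
    obtain ⟨χ, hker, hχ⟩ := spinor_exists_ker hQ hn
    obtain ⟨r₁, m₁, i₁⟩ := exists_isRefl (Q := Q) q₁
    obtain ⟨r₂, m₂, i₂⟩ := exists_isRefl (Q := Q) q₂
    refine ⟨⟨r₁, m₁⟩ * ⟨r₂, m₂⟩, ?_, ?_, ?_, ?_⟩
    · rw [siegelGroup_eq hQ hn, ← hker, MonoidHom.mem_ker, map_mul, hχ _ _ i₁, hχ _ _ i₂,
        show reflVal Q z₂ = reflVal Q z₁ by rw [reflVal, reflVal, q₁', q₂'], reflVal_mul_self q₁]
    · show r₁ (r₂ z₁) = z₂
      rw [i₂.2, hβ', q₂', div_one, one_smul, v_sub two, map_add, i₁.2, i₁.2, b_self, q₁', b_comm z₂ z₁, hβ',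
        two_eq_zero two, zero_mul, zero_div, zero_smul, sub_zero, div_one, one_smul, v_sub two, add_left_comm,
        v_add_self two, add_zero]
    · show r₁ (r₂ z₂) = z₁ + z₂
      rw [i₂.2, b_self, two_eq_zero two, zero_mul, zero_div, zero_smul, sub_zero, i₁.2, b_comm z₂ z₁, hβ', q₁',
        div_one, one_smul, v_sub two, add_comm]
    · intro x h1 h2
      show r₁ (r₂ x) = x
      rw [i₂.fix h2, i₁.fix h1]
  have re : ∀ i < m, r.1 (e i) = e i := fun i hi => rfix _ (H.eW hz₁ hi) (H.eW hz₂ hi)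
  have rf : ∀ i < m, r.1 (f i) = f i := fun i hi => rfix _ (H.fW hz₁ hi) (H.fW hz₂ hi)
  have hz₃ : InW Q m e f (z₁ + z₂) := fun i hi => by simp [b_add_left, hz₁ i hi, hz₂ i hi]
  obtain ⟨w, hwdef⟩ : ∃ w, wS Q e f (m - 1) = w := ⟨_, rfl⟩
  have wlt : ∀ i, i + 1 < m → w.1 (e i) = e (i + 1) ∧ w.1 (f i) = f (i + 1) := fun i hi =>
    hwdef ▸ H.wS_lt (k := m - 1) (by omega) (i := i) (by omega)
  have hw : w ∈ siegelGroup Q := hwdef ▸ H.wS_mem_siegel hQ hn (by omega)
  have hz := H.zel_mem_siegel two hQ hn h1m h2m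
  have hA : sg Q (e 0) z₁ ∈ siegelGroup Q := H.sg_mem_siegel hQ hn (H.qe 0 h0m) (H.eW hz₁ h0m)
  refine ⟨zel Q e f 1 2 * sg Q (e 0) z₁, mul_mem hz hA, w * r, mul_mem hw hr, ?_⟩
  obtain ⟨M, hM⟩ : ∃ M, Subgroup.closure ({zel Q e f 1 2 * sg Q (e 0) z₁, w * r} : Set (oGroup Q)) = M := ⟨_, rfl⟩
  rw [hM]
  have haM : zel Q e f 1 2 * sg Q (e 0) z₁ ∈ M := hM ▸ Subgroup.subset_closure (by simp)
  have hbM : w * r ∈ M := hM ▸ Subgroup.subset_closure (by simp)
  have be : ∀ i, i + 1 < m → (w * r).1 (e i) = e (i + 1) ∧ (w * r).1 (f i) = f (i + 1) := fun i hi => by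
    show w.1 (r.1 (e i)) = _ ∧ w.1 (r.1 (f i)) = _
    rw [re i (by omega), rf i (by omega)]
    exact wlt i hi
  have bz : (w * r).1 z₁ = z₂ ∧ (w * r).1 z₂ = z₁ + z₂ := by
    show w.1 (r.1 z₁) = _ ∧ w.1 (r.1 z₂) = _
    rw [rz₁, rz₂, ← hwdef, H.wS_W (by omega) hz₂, H.wS_W (by omega) hz₃]
    exact ⟨rfl, rfl⟩
  have bz₃ : (w * r).1 (z₁ + z₂) = z₁ := by
    rw [map_add, bz.1, bz.2, add_left_comm, v_add_self two, add_zero]
  have hA0 : sg Q (e 0) z₁ ∈ M := by
    have := pow_mem haM 3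
    rwa [split_pow_three two H (H.qe 0 h0m) (H.eW hz₁ h0m) (H.zel_ek two h1m h2m h0m (by omega) (by omega))
      (H.zel_fix two h1m h2m (H.We hz₁ h1m) (H.Wf hz₁ h1m) (H.We hz₁ h2m) (H.Wf hz₁ h2m))
      (H.zel_cube two h1m h2m (by omega))] at this
  have hζ : zel Q e f 1 2 ∈ M := (Subgroup.mul_mem_cancel_right M hA0).1 haM
  have hA1 : sg Q (e 1) z₂ ∈ M := by
    have := conj_sg_mem hbM (H.qe 0 h0m) (H.eW hz₁ h0m) hA0
    rwa [(be 0 (by omega)).1, bz.1] at this
  have hB2 : sg Q (f 2) z₂ ∈ M := by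
    have := conj_sg_mem hζ (H.qe 1 h1m) (H.eW hz₂ h1m) hA1
    rwa [H.zel_ei two h1m h2m (by omega),
      H.zel_fix two h1m h2m (H.We hz₂ h1m) (H.Wf hz₂ h1m) (H.We hz₂ h2m) (H.Wf hz₂ h2m)] at this
  have hB0 : sg Q (f 0) (z₁ + z₂) ∈ M := by
    have h1 := conj_sg_mem (inv_mem hbM) (H.qf 2 h2m) (H.fW hz₂ h2m) hB2
    rw [inv_apply_of (be 1 (by omega)).2, inv_apply_of bz.1] at h1
    have h2 := conj_sg_mem (inv_mem hbM) (H.qf 1 h1m) (H.fW hz₁ h1m) h1
    rwa [inv_apply_of (be 0 (by omega)).2, inv_apply_of bz₃] at h2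
  have hL10 : ∀ c : F, sg Q (f 0) (c • e 1) ∈ M := by
    have h := H.mkL h1m h0m (by omega) hz₂ hz₃ hA1 hB0
    rw [ne_zero_eq_one two (c := -polar Q (z₁ + z₂) z₂) (by
      rw [b_add_left, hβ', b_self, two_eq_zero two, zero_mul, add_zero]; exact neg_ne_zero.2 one_ne_zero),
      one_smul] at h
    exact all_c two (H.qf 0 h0m) h
  have step : ∀ i, i + 1 < m → ∀ c : F, sg Q (f i) (c • e (i + 1)) ∈ M := by
    intro i
    induction i with
    | zero => exact fun _ => hL10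
    | succ i ih =>
      intro hi c
      have := conj_sg_mem hbM (H.qf i (by omega)) (H.L_polar (by omega) (by omega) (by omega) c) (ih (by omega) c)
      rwa [(be i (by omega)).2, map_smul, (be (i + 1) hi).1] at this
  have last : ∀ c : F, sg Q (f (m - 1)) (c • e 0) ∈ M := fun c => by
    have h' := step (m - 2) (by omega) c
    rw [show m - 2 + 1 = m - 1 by omega] at h'
    have := conj_sg_mem hbM (H.qf (m - 2) (by omega)) (H.L_polar (by omega) (by omega) (by omega) c) h'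
    rw [(be (m - 2) (by omega)).2, map_smul, show m - 2 + 1 = m - 1 by omega,
      show (w * r).1 (e (m - 1)) = e 0 by
        show w.1 (r.1 (e (m - 1))) = _
        rw [re (m - 1) (by omega), ← hwdef, (H.wlast_two two (show m - 1 < m by omega)).1]] at this
    exact this
  have hL := H.L_all_down step last
  exact H.of_pair hQ (by omega) hz₁ hz₂ q₁ q₂ hβ hspan
    (H.A_spread hz₁ h0m hL fun c => all_c two (H.qe 0 h0m) hA0 c)
    (H.B_spread hz₂ h2m hL fun c => all_c two (H.qf 2 h2m) hB2 c)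

/-- **two generators**, plus type over two elements -/
theorem two_gen_split_two (hQ : (polarBilin Q).Nondegenerate) (hn : 5 ≤ finrank F V) (hm : 5 ≤ m)
    (hW : ∀ v, InW Q m e f v → v = 0) :
    ∃ a ∈ siegelGroup Q, ∃ b ∈ siegelGroup Q, siegelGroup Q ≤ Subgroup.closure {a, b} := by
  have h0m : 0 < m := by omega
  have h1m : 1 < m := by omega
  have h2m : 2 < m := by omega
  have h3m : 3 < m := by omega
  have h4m : 4 < m := by omega
  obtain ⟨w, hwdef⟩ : ∃ w, wS Q e f (m - 1) = w := ⟨_, rfl⟩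
  have wlt : ∀ i, i + 1 < m → w.1 (e i) = e (i + 1) ∧ w.1 (f i) = f (i + 1) := fun i hi =>
    hwdef ▸ H.wS_lt (k := m - 1) (by omega) (i := i) (by omega)
  have hw : w ∈ siegelGroup Q := hwdef ▸ H.wS_mem_siegel hQ hn (by omega)
  have hA : sg Q (e 0) (e 1) ∈ siegelGroup Q := H.sg_mem_siegel hQ hn (H.qe 0 h0m) (H.ee 0 h0m 1 h1m)
  refine ⟨zel Q e f 2 4 * sg Q (e 0) (e 1), mul_mem (H.zel_mem_siegel two hQ hn h2m h4m) hA, w, hw, ?_⟩
  obtain ⟨M, hM⟩ : ∃ M, Subgroup.closure ({zel Q e f 2 4 * sg Q (e 0) (e 1), w} : Set (oGroup Q)) = M := ⟨_, rfl⟩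
  rw [hM]
  have haM : zel Q e f 2 4 * sg Q (e 0) (e 1) ∈ M := hM ▸ Subgroup.subset_closure (by simp)
  have hwM : w ∈ M := hM ▸ Subgroup.subset_closure (by simp)
  have hA0 : sg Q (e 0) (e 1) ∈ M := by
    have := pow_mem haM 3
    rwa [split_pow_three two H (H.qe 0 h0m) (H.ee 0 h0m 1 h1m)
      (H.zel_ek two h2m h4m h0m (by omega) (by omega)) (H.zel_ek two h2m h4m h1m (by omega) (by omega))
      (H.zel_cube two h2m h4m (by omega))] at this
  have hζ : zel Q e f 2 4 ∈ M := (Subgroup.mul_mem_cancel_right M hA0).1 haM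
  have hP : ∀ k, k + 1 < m → sg Q (e k) (e (k + 1)) ∈ M := by
    intro k
    induction k with
    | zero => exact fun _ => hA0
    | succ k ih =>
      intro hk
      have := conj_sg_mem hwM (H.qe k (by omega)) (H.ee k (by omega) (k + 1) (by omega)) (ih (by omega))
      rwa [(wlt k (by omega)).1, (wlt (k + 1) hk).1] at this
  have hL32 : sg Q (f 2) (e 3) ∈ M := by
    have := conj_sg_mem hζ (H.qe 3 h3m) (H.ee 3 h3m 4 h4m) (hP 3 h4m)
    rwa [H.zel_ek two h2m h4m h3m (by omega) (by omega), H.zel_ej two h2m h4m (by omega),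
      sg_swap (H.qe 3 h3m) (H.qf 2 h2m) (H.ef0 h3m h2m (by omega)), v_neg two] at this
  have hL21 : sg Q (f 1) (e 2) ∈ M := by
    have := conj_sg_mem (inv_mem hwM) (H.qf 2 h2m) (H.fe0 h2m h3m (by omega)) hL32
    rwa [inv_apply_of (wlt 1 h2m).2, inv_apply_of (wlt 2 h3m).1] at this
  have hL10 : sg Q (f 0) (e 1) ∈ M := by
    have := conj_sg_mem (inv_mem hwM) (H.qf 1 h1m) (H.fe0 h1m h2m (by omega)) hL21
    rwa [inv_apply_of (wlt 0 h1m).2, inv_apply_of (wlt 1 h2m).1] at this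
  have step' : ∀ i, i + 1 < m → sg Q (f i) (e (i + 1)) ∈ M := by
    intro i
    induction i with
    | zero => exact fun _ => hL10
    | succ i ih =>
      intro hi
      have := conj_sg_mem hwM (H.qf i (by omega)) (H.fe0 (by omega) (by omega) (by omega)) (ih (by omega))
      rwa [(wlt i (by omega)).2, (wlt (i + 1) hi).1] at this
  have step : ∀ i, i + 1 < m → ∀ c : F, sg Q (f i) (c • e (i + 1)) ∈ M := fun i hi c =>
    all_c two (H.qf i (by omega)) (step' i hi) c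
  have last : ∀ c : F, sg Q (f (m - 1)) (c • e 0) ∈ M := fun c => by
    refine all_c two (H.qf (m - 1) (by omega)) ?_ c
    have h' := step' (m - 2) (by omega)
    rw [show m - 2 + 1 = m - 1 by omega] at h'
    have := conj_sg_mem hwM (H.qf (m - 2) (by omega)) (H.fe0 (by omega) (by omega) (by omega)) h'
    rwa [(wlt (m - 2) (by omega)).2, show m - 2 + 1 = m - 1 by omega, ← hwdef,
      (H.wlast_two two (show m - 1 < m by omega)).1] at this
  have hL := H.L_all_down step last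
  have hPall := H.P_spread h0m h1m (by omega) hL fun c => all_c two (H.qe 0 h0m) hA0 c
  have hL' : ∀ i < m, ∀ j < m, i ≠ j → ∀ c : F, sg Q (e j) (c • f i) ∈ M := fun i hi j hj hij c => by
    rw [← sg_scale c (H.qe j hj) (H.ef0 hj hi hij.symm),
      sg_swap (by rw [q_smul, H.qe j hj, mul_zero]) (H.qf i hi)
        (by rw [b_smul_left, H.ef0 hj hi hij.symm, mul_zero]), ← neg_smul]
    exact hL j hj i hi hij.symm _
  have hN42 : sg Q (f 4) (f 2) ∈ M := by
    have := conj_sg_mem hζ (H.qe 2 h2m) (H.P_polar h2m h4m 1) (hPall 2 h2m 4 h4m (by omega) 1)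
    rwa [map_smul, H.zel_ei two h2m h4m (by omega), H.zel_ej two h2m h4m (by omega), one_smul] at this
  exact H.of_gen hQ (by omega) (fun i hi v hv => by rw [hW v hv, sg_zero (H.qe i hi)]; exact one_mem _)
    (fun i hi v hv => by rw [hW v hv, sg_zero (H.qf i hi)]; exact one_mem _)
    hPall (H.symm.P_spread h4m h2m (by omega) hL' fun c => all_c two (H.qf 4 h4m) hN42 c) hL

end Hyp

end Two

end Cfsg.Agent.TwoGenOrth
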